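import Cfsg.Agent.Lib.CIT.SuzukiRecog.Frame
import Cfsg.Agent.Lib.PGroups.SuzukiZass.Main

/-!
# The frame of a simple Zassenhaus group with a nonabelian 2-group as point kernel
-/

set_option autoImplicit false
set_option linter.all false

open Cfsg

namespace CfsgLib.CIT.SuzukiRecog

open CfsgLib.PGroups.SuzukiZass (Kern)

universe u

variable {G : Type u} {Ω : Type*} [Group G] [Finite G] [MulAction G Ω] [Fintype Ω]
  {H : Subgroup G} {a b : Ω} {m : ℕ}

theorem kern_conj_mem (K : Kern H a b m) {g : G} (hg : g • a = a) {x : G} (hx : x ∈ H) : g * x * g⁻¹ ∈ H :=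
  (Subgroup.mem_set_normalizer_iff.1 (K.normalizer_eq.ge hg) x).1 hx

theorem kern_regular (K : Kern H a b m) :
    (∀ u ∈ H, u • b ≠ a) ∧ (∀ u ∈ H, ∀ v ∈ H, u • b = v • b → u = v) ∧
      ∀ p : Ω, p ≠ a → ∃ u ∈ H, u • b = p := by
  have hne : ∀ u ∈ H, u • b ≠ a := fun u hu e =>
    K.ne (MulAction.injective u ((show u • a = a from K.le hu).trans e.symm))
  have hinj : ∀ u ∈ H, ∀ v ∈ H, u • b = v • b → u = v := by
    intro u hu v hv e
    by_contra huv
    exact K.ne (K.fix (v⁻¹ * u) (mul_mem (inv_mem hv) hu) (fun h => huv (inv_mul_eq_one.1 h).symm) b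
      (by rw [mul_smul, e, inv_smul_smul])).symm
  refine ⟨hne, hinj, fun p hp => ?_⟩
  let f : H → {c : Ω // c ≠ a} := fun u => ⟨(u : G) • b, hne u u.2⟩
  have hf : Function.Bijective f := (Nat.bijective_iff_injective_and_card f).2
    ⟨fun u v e => Subtype.ext (hinj u u.2 v v.2 (congrArg Subtype.val e)), by
      classical
      rw [Nat.card_eq_fintype_card (α := {c : Ω // c ≠ a}), Fintype.card_subtype_compl, Fintype.card_subtype_eq]
      have := K.card
      omega⟩
  obtain ⟨u, hu⟩ := hf.2 ⟨p, hp⟩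
  exact ⟨u, u.2, congrArg Subtype.val hu⟩

variable [IsSimpleGroup G]

theorem kern_not_three_dvd (K : Kern H a b m) : ¬ 3 ∣ Nat.card G := by
  obtain ⟨k, hk⟩ := K.odd_log K.card_sq
  have hq : 2 ^ m % 3 = 2 := by
    rw [hk, pow_succ, pow_mul, Nat.mul_mod, Nat.pow_mod]
    norm_num
  intro h
  rw [K.card_eq, K.card_sq, show Nat.card ↥(MulAction.stabilizer G a ⊓ MulAction.stabilizer G b : Subgroup G) =
    2 ^ m - 1 by have := K.card_two_stab; omega] at h
  generalize hQ : 2 ^ m = q at *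
  have h1 : (q ^ 2 + 1) % 3 = 2 := by rw [Nat.add_mod, Nat.pow_mod, hq]
  have h2 : q ^ 2 % 3 = 1 := by rw [Nat.pow_mod, hq]
  have h3 : (q - 1) % 3 = 1 := by omega
  have : (q ^ 2 + 1) * (q ^ 2 * (q - 1)) % 3 = 2 := by
    rw [Nat.mul_mod, Nat.mul_mod (q ^ 2) (q - 1), h1, h2, h3]
  omega

/-- A swapping involution normalised by a central involution `z` of the kernel. -/
theorem exists_normal_swap (K : Kern H a b m) {z : G} (hz : z ∈ H) (hz2 : orderOf z = 2) :
    ∃ w c : G, w * w = 1 ∧ w • a = b ∧ w • b = a ∧ c ∈ H ∧ w * z * w = c * w * c⁻¹ ∧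
      ∀ h ∈ (MulAction.stabilizer G a ⊓ MulAction.stabilizer G b : Subgroup G), w * h = h⁻¹ * w := by
  obtain ⟨hcyc, v, hv, hva, hvb, hinv⟩ := CfsgLib.Perm.zass_simple_torus K.zass K.ne
  obtain ⟨hne, hinj, hreg⟩ := kern_regular K
  have hv2 : v * v = 1 := by rw [← pow_two, ← hv, pow_orderOf_eq_one]
  have hzz : z * z = 1 := by rw [← pow_two, ← hz2, pow_orderOf_eq_one]
  have hz1 : z ≠ 1 := fun e => by rw [e, orderOf_one] at hz2; omega
  have hzb : z • b ≠ b := fun e => K.ne (K.fix z hz hz1 b e).symm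
  have hva' : v • (z • b) ≠ a := fun e => hzb (MulAction.injective v (e.trans hvb.symm))
  obtain ⟨c, hc, hcb⟩ := hreg _ hva'
  set X := v * z * v with hX
  have hXa : X • a = c • b := by rw [hX, mul_smul, mul_smul, hva, hcb]
  have hXX : X * X = 1 := by
    calc v * z * v * (v * z * v) = v * z * (v * v) * z * v := by group
      _ = v * (z * z) * v := by rw [hv2, mul_one]; group
      _ = 1 := by rw [hzz, mul_one, hv2]
  have hXcb : X • (c • b) = a := by rw [← hXa, ← mul_smul, hXX, one_smul]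
  have hca : c • a = a := K.le hc
  set e := v * c⁻¹ * X * c with he
  have hea : e • a = a := by
    rw [he, mul_smul, mul_smul, mul_smul, hca, hXa, inv_smul_smul, hvb]
  have heb : e • b = b := by
    rw [he, mul_smul, mul_smul, mul_smul, hXcb, inv_smul_eq_iff.2 hca.symm, hva]
  have heE : e ∈ (MulAction.stabilizer G a ⊓ MulAction.stabilizer G b : Subgroup G) := ⟨hea, heb⟩
  have hXe : X = c * (v * e) * c⁻¹ := by
    rw [he, show v * (v * c⁻¹ * X * c) = v * v * c⁻¹ * X * c by group, hv2]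
    group
  have hev : ∀ h ∈ (MulAction.stabilizer G a ⊓ MulAction.stabilizer G b : Subgroup G), v * h = h⁻¹ * v := by
    intro h hh
    rw [← hinv h hh]
    group
  have hcomm : ∀ h ∈ (MulAction.stabilizer G a ⊓ MulAction.stabilizer G b : Subgroup G), e * h = h * e := by
    intro h hh
    haveI := hcyc
    obtain ⟨g, hg⟩ := IsCyclic.exists_generator
      (α := (MulAction.stabilizer G a ⊓ MulAction.stabilizer G b : Subgroup G))
    obtain ⟨i, hi⟩ := hg ⟨e, heE⟩
    obtain ⟨j, hj⟩ := hg ⟨h, hh⟩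
    have := congrArg Subtype.val ((Commute.refl g).zpow_zpow i j).eq
    simp only [hi, hj] at this
    exact this
  have hve : v * e⁻¹ = e * v := by rw [hev _ (inv_mem heE), inv_inv]
  refine ⟨v * e⁻¹, e * c * e⁻¹, ?_, ?_, ?_, kern_conj_mem K hea hc, ?_, fun h hh => ?_⟩
  · nth_rw 1 [hve]
    rw [show e * v * (v * e⁻¹) = e * (v * v) * e⁻¹ by group, hv2]
    group
  · rw [mul_smul, inv_smul_eq_iff.2 hea.symm, hva]
  · rw [mul_smul, inv_smul_eq_iff.2 heb.symm, hvb]
  · calc v * e⁻¹ * z * (v * e⁻¹) = e * (v * z * v) * e⁻¹ := by nth_rw 1 [hve]; group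
      _ = e * (c * (v * e) * c⁻¹) * e⁻¹ := by rw [← hX, hXe]
      _ = e * c * e⁻¹ * (e * v) * (e * c * e⁻¹)⁻¹ := by group
      _ = _ := by rw [hve]
  · rw [mul_assoc, show e⁻¹ * h = h * e⁻¹ from
      (Commute.inv_left (show Commute e h from hcomm h hh)).eq, ← mul_assoc, hev h hh, mul_assoc]

/-- The kernel and the swapping involution generate. -/
theorem kern_generate (K : Kern H a b m) {w : G} (hw : w * w = 1) (hwa : w • a = b)
    (hE : ∀ h ∈ (MulAction.stabilizer G a ⊓ MulAction.stabilizer G b : Subgroup G), w * h = h⁻¹ * w) :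
    Subgroup.closure (insert w (H : Set G)) = ⊤ := by
  obtain ⟨hne, hinj, hreg⟩ := kern_regular K
  set E := (MulAction.stabilizer G a ⊓ MulAction.stabilizer G b : Subgroup G) with hEdef
  have hwi : w⁻¹ = w := inv_eq_of_mul_eq_one_right hw
  -- decomposition
  have hstab : ∀ g : G, g • a = a → ∃ u ∈ H, ∃ e ∈ E, g = u * e := by
    intro g hg
    obtain ⟨u, hu, hub⟩ := hreg (g • b) (fun e => K.ne (MulAction.injective g (hg.trans e.symm)))
    refine ⟨u, hu, u⁻¹ * g, ⟨?_, ?_⟩, (mul_inv_cancel_left u g).symm⟩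
    · show (u⁻¹ * g) • a = a
      rw [mul_smul, hg, inv_smul_eq_iff.2 (show u • a = a from K.le hu).symm]
    · show (u⁻¹ * g) • b = b
      rw [mul_smul, ← hub, inv_smul_smul]
  set S := Subgroup.closure ((H : Set G) ∪ (fun x => w * x * w) '' (H : Set G)) with hS
  have hHS : H ≤ S := fun x hx => Subgroup.subset_closure (Or.inl hx)
  have hwS : ∀ x ∈ H, w * x * w ∈ S := fun x hx => Subgroup.subset_closure (Or.inr ⟨x, hx, rfl⟩)
  -- the set normalising `S`
  have hgen : ∀ g : G, (∀ x ∈ H, g * x * g⁻¹ ∈ S ∧ g * (w * x * w) * g⁻¹ ∈ S) → ∀ x ∈ S, g * x * g⁻¹ ∈ S := by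
    intro g hg x hx
    refine (Subgroup.closure_le (S.comap (MulAut.conj g).toMonoidHom)).2 ?_ hx
    rintro y (hy | ⟨x, hx, rfl⟩)
    · exact (hg y hy).1
    · exact (hg x hx).2
  have hnH : ∀ u ∈ H, ∀ x ∈ S, u * x * u⁻¹ ∈ S := fun u hu x hx =>
    mul_mem (mul_mem (hHS hu) hx) (inv_mem (hHS hu))
  have hnw : ∀ x ∈ S, w * x * w⁻¹ ∈ S := hgen w fun x hx => by
    rw [hwi]
    refine ⟨hwS x hx, ?_⟩
    rw [show w * (w * x * w) * w = (w * w) * x * (w * w) by group, hw, one_mul, mul_one]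
    exact hHS hx
  have hnE : ∀ e ∈ E, ∀ x ∈ S, e * x * e⁻¹ ∈ S := fun e he => hgen e fun x hx => by
    refine ⟨hHS (kern_conj_mem K he.1 hx), ?_⟩
    have h1 : w * e⁻¹ = e * w := by rw [hE _ (inv_mem he), inv_inv]
    have h2 : w * e = e⁻¹ * w := hE e he
    rw [show e * (w * x * w) * e⁻¹ = (e * w) * x * (w * e⁻¹) by group]
    rw [h1]
    nth_rw 1 [← h1]
    rw [show w * e⁻¹ * x * (e * w) = w * (e⁻¹ * x * e⁻¹⁻¹) * w by group]
    exact hwS _ (kern_conj_mem K (inv_mem he.1 : e⁻¹ ∈ MulAction.stabilizer G a) hx)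
  have hcomp : ∀ g k : G, (∀ x ∈ S, g * x * g⁻¹ ∈ S) → (∀ x ∈ S, k * x * k⁻¹ ∈ S) →
      ∀ x ∈ S, g * k * x * (g * k)⁻¹ ∈ S := fun g k hg hk x hx => by
    rw [show g * k * x * (g * k)⁻¹ = g * (k * x * k⁻¹) * g⁻¹ by group]
    exact hg _ (hk x hx)
  have hform : ∀ g : G, (∃ u ∈ H, ∃ e ∈ E, g = u * e) ∨ ∃ u' ∈ H, ∃ u ∈ H, ∃ e ∈ E, g = u' * w * (u * e) := by
    intro g
    by_cases hg : g • a = a
    · exact Or.inl (hstab g hg)
    · obtain ⟨u', hu', hu'b⟩ := hreg _ hg
      obtain ⟨u, hu, e, he, heq⟩ := hstab ((u' * w)⁻¹ * g) (by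
        rw [mul_smul, ← hu'b, ← hwa, ← mul_smul u', inv_smul_smul])
      exact Or.inr ⟨u', hu', u, hu, e, he, by rw [← heq, mul_inv_cancel_left]⟩
  have hN : S.Normal := ⟨fun x hx g => by
    rcases hform g with ⟨u, hu, e, he, rfl⟩ | ⟨u', hu', u, hu, e, he, rfl⟩
    · exact hcomp u e (hnH u hu) (hnE e he) x hx
    · exact hcomp _ _ (hcomp u' w (hnH u' hu') hnw) (hcomp u e (hnH u hu) (hnE e he)) x hx⟩
  have hStop : S = ⊤ := by
    refine (hN.eq_bot_or_eq_top).resolve_left fun hbot => ?_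
    have hH : H = ⊥ := le_bot_iff.1 (hbot ▸ hHS)
    have := K.card_sq
    rw [hH, Subgroup.card_bot] at this
    have := K.four_le
    nlinarith
  refine top_le_iff.1 (hStop.ge.trans ((Subgroup.closure_le _).2 ?_))
  rintro y (hy | ⟨x, hx, rfl⟩)
  · exact Subgroup.subset_closure (Or.inr hy)
  · exact mul_mem (mul_mem (Subgroup.subset_closure (Or.inl rfl)) (Subgroup.subset_closure (Or.inr hx)))
      (Subgroup.subset_closure (Or.inl rfl))

/-- The frame over a given field. -/
theorem exists_frame (K : Kern H a b m) (F : Type) [Field F] [CharP F 2] [Finite F] (hF : Nat.card F = 2 ^ m) :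
    ∃ (φ : F ≃+* F) (i : ℕ) (β : F), i ≠ 0 ∧ i < m ∧ (∀ x, φ x = x ^ 2 ^ i) ∧ Nonempty (Frame G φ β) := by
  classical
  haveI := Fintype.ofFinite F
  haveI := K.zass.1
  obtain ⟨hne, hinj, hreg⟩ := kern_regular K
  set E := (MulAction.stabilizer G a ⊓ MulAction.stabilizer G b : Subgroup G) with hEdef
  have hEcard : Nat.card E = 2 ^ m - 1 := by have := K.card_two_stab; rw [← hEdef] at this; omega
  haveI : IsCyclic E := (CfsgLib.Perm.zass_simple_torus K.zass K.ne).1
  obtain ⟨e0, he0⟩ := IsCyclic.exists_generator (α := E)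
  have he0a : (e0 : G) • a = a := e0.2.1
  let ξ : MulAut H :=
    { toFun := fun x => ⟨(e0 : G) * x * (e0 : G)⁻¹, kern_conj_mem K he0a x.2⟩
      invFun := fun x => ⟨(e0 : G)⁻¹ * x * ((e0 : G)⁻¹)⁻¹, kern_conj_mem K (inv_mem e0.2.1 : _ ∈ MulAction.stabilizer G a) x.2⟩
      left_inv := fun x => Subtype.ext (by show (e0 : G)⁻¹ * ((e0 : G) * x * (e0 : G)⁻¹) * ((e0 : G)⁻¹)⁻¹ = x; group)
      right_inv := fun x => Subtype.ext (by show (e0 : G) * ((e0 : G)⁻¹ * x * ((e0 : G)⁻¹)⁻¹) * (e0 : G)⁻¹ = x; group)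
      map_mul' := fun x y => Subtype.ext (by
        show (e0 : G) * ((x : G) * y) * (e0 : G)⁻¹ = (e0 : G) * x * (e0 : G)⁻¹ * ((e0 : G) * y * (e0 : G)⁻¹)
        group) }
  have hξ : ∀ (j : ℕ) (x : H), (((ξ ^ j) x : H) : G) = (e0 : G) ^ j * x * ((e0 : G) ^ j)⁻¹ := by
    intro j
    induction j with
    | zero => intro x; simp
    | succ j ih =>
      intro x
      rw [pow_succ' ξ, MulAut.mul_apply]
      show (e0 : G) * (((ξ ^ j) x : H) : G) * (e0 : G)⁻¹ = _
      rw [ih, pow_succ' (e0 : G)]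
      group
  have he0ord : orderOf e0 = 2 ^ m - 1 := by rw [orderOf_eq_card_of_forall_mem_zpowers he0, hEcard]
  let D : CfsgLib.PGroups.Suzuki.Data H m :=
    { ξ := ξ
      two_le := K.two_le
      isPGroup := K.isP
      central := fun x hx => Subgroup.mem_center_iff.2 fun y => Subtype.ext
        (K.inv_central x x.2 (by rw [← pow_two]; exact congrArg Subtype.val hx) y y.2).symm
      card_inv := by
        rw [← K.card_involutions]
        let e : {x : H // x ^ 2 = 1 ∧ x ≠ 1} ≃ {u : G // u ∈ H ∧ orderOf u = 2} :=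
          { toFun := fun x => ⟨x.1, x.1.2, orderOf_eq_prime (congrArg Subtype.val x.2.1)
              fun h => x.2.2 (Subtype.ext h)⟩
            invFun := fun u => ⟨⟨u.1, u.2.1⟩, Subtype.ext (show u.1 ^ 2 = 1 from orderOf_dvd_iff_pow_eq_one.1 (dvd_of_eq u.2.2)),
              fun h => by
                have h' : u.1 = 1 := congrArg Subtype.val h
                have := u.2.2
                rw [h', orderOf_one] at this; omega⟩
            left_inv := fun x => rfl
            right_inv := fun u => rfl }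
        rw [← Nat.card_congr e]
        haveI : Fintype H := Fintype.ofFinite _
        rw [Nat.card_eq_fintype_card, Nat.card_eq_fintype_card, Fintype.card_subtype, Fintype.card_subtype,
          show (Finset.univ.filter fun x : H => x ^ 2 = 1 ∧ x ≠ 1) =
            (Finset.univ.filter fun x : H => x ^ 2 = 1).erase 1 by ext x; simp [and_comm],
          Finset.card_erase_add_one (by simp)]
      order := MulEquiv.ext fun x => Subtype.ext (by
        rw [hξ, ← Subgroup.coe_pow, ← he0ord, pow_orderOf_eq_one]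
        simp)
      fpf := fun j x hx hfix => by
        have h1 : (e0 : G) ^ j * x * ((e0 : G) ^ j)⁻¹ = x := by rw [← hξ, hfix]
        have h2 : (e0 : G) ^ j ∈ H := K.centralizer_le x.2 (fun h => hx (Subtype.ext h))
          (Subgroup.mem_centralizer_singleton_iff.2 (mul_inv_eq_iff_eq_mul.1 h1))
        rw [← he0ord]
        refine orderOf_dvd_of_pow_eq_one (Subtype.ext ?_)
        by_contra h3
        exact K.ne (K.fix _ h2 (by simpa using h3) b (pow_mem e0.2 j).2).symm }
  have hna : ¬ IsMulCommutative H := fun h => by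
    obtain ⟨-, -, ⟨x, y, hxy⟩, -⟩ := K.suzuki
    exact hxy (h.is_comm.comm x y)
  obtain ⟨F', _, _, _, σ, i, μ', c', hF', -, -, hi0, hi, hσ, hμ', hmul', hξ'⟩ :=
    CfsgLib.PGroups.Suzuki.exists_typeA_coord D hna K.card_sq
  -- move to `F`
  have hcards : Fintype.card F' = Fintype.card F := by rw [hF', ← hF, Nat.card_eq_fintype_card]
  let ε : F' ≃+* F := FiniteField.ringEquivOfCardEq hcards
  let φ : F ≃+* F := ε.symm.trans (σ.trans ε)
  have hφ : ∀ x, φ x = x ^ 2 ^ i := fun x => by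
    show ε (σ (ε.symm x)) = _
    rw [hσ, map_pow, RingEquiv.apply_symm_apply]
  let C : H ≃ F × F := c'.trans (Equiv.prodCongr ε.toEquiv ε.toEquiv)
  have hC : ∀ g h, C (g * h) = pm φ (C g) (C h) := fun g h => by
    show (ε (c' (g * h)).1, ε (c' (g * h)).2) = pm φ (ε (c' g).1, ε (c' g).2) (ε (c' h).1, ε (c' h).2)
    rw [hmul']
    simp [pm, φ]
  set μ := ε μ' with hμdef
  have hμ : orderOf μ = 2 ^ m - 1 := by
    rw [hμdef, ← hμ']
    exact orderOf_injective ε.toMonoidHom ε.injective μ'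
  have hCξ : ∀ g, C (ξ g) = sc φ μ (C g) := fun g => by
    show (ε (c' (D.ξ g)).1, ε (c' (D.ξ g)).2) = _
    rw [hξ']
    simp [sc, nrm, φ, C, μ]
  have hCξj : ∀ (j : ℕ) g, C ((ξ ^ j) g) = sc φ (μ ^ j) (C g) := by
    intro j
    induction j with
    | zero => intro g; rw [pow_zero, pow_zero, sc_one]; rfl
    | succ j ih => intro g; rw [pow_succ' ξ, MulAut.mul_apply, hCξ, ih, sc_sc, pow_succ']
  have hC1 : C 1 = (0, 0) := by
    have h1 := hC 1 1
    rw [one_mul] at h1
    have h2 := congrArg Prod.fst h1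
    have h3 := congrArg Prod.snd h1
    simp only [pm, left_eq_add] at h2
    rw [pm, h2] at h3
    simp at h3
    exact Prod.ext h2 h3
  set ι : F × F → G := fun p => (C.symm p : G) with hιdef
  have hιH : ∀ p, ι p ∈ H := fun p => (C.symm p).2
  have hι0 : ι (0, 0) = 1 := by rw [hιdef]; simp [← hC1]
  have hιmul : ∀ p r, ι p * ι r = ι (pm φ p r) := fun p r => by
    show ((C.symm p * C.symm r : H) : G) = _
    congr 1
    rw [Equiv.eq_symm_apply, hC, C.apply_symm_apply, C.apply_symm_apply]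
  -- the points
  let f : Option (F × F) → Ω := fun o => o.elim a fun p => ι p • b
  have hf : Function.Bijective f := by
    refine ⟨?_, fun p => ?_⟩
    · rintro (_ | p) (_ | r) e
      · rfl
      · exact absurd e.symm (hne _ (hιH r))
      · exact absurd e (hne _ (hιH p))
      · exact congrArg some (C.symm.injective (Subtype.ext (hinj _ (hιH p) _ (hιH r) e)))
    · by_cases hp : p = a
      · exact ⟨none, hp.symm⟩
      · obtain ⟨u, hu, hub⟩ := hreg p hp
        exact ⟨some (C ⟨u, hu⟩), by show ι (C ⟨u, hu⟩) • b = p; rw [hιdef]; simpa using hub⟩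
  let pt : Option (F × F) ≃ Ω := Equiv.ofBijective f hf
  let act : G →* Equiv.Perm (Option (F × F)) :=
    pt.symm.permCongrHom.toMonoidHom.comp (MulAction.toPermHom G Ω)
  have hact : ∀ g o, pt (act g o) = g • pt o := fun g o => by
    show pt (pt.symm (g • pt o)) = _
    rw [Equiv.apply_symm_apply]
  have hact' : ∀ g o o', g • pt o = pt o' → act g o = o' := fun g o o' h => pt.injective ((hact g o).trans h)
  have hu : ∀ p, act (ι p) = pmPerm φ p := fun p => Equiv.ext fun o => hact' _ _ _ (by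
    rw [pmPerm_apply]
    rcases o with _ | r
    · exact K.le (hιH p)
    · show ι p • ι r • b = ι (pm φ p r) • b
      rw [← mul_smul, hιmul])
  have he : ∀ (j : ℕ) o, act ((e0 : G) ^ j) o = Option.map (sc φ (μ ^ j)) o := fun j o => hact' _ _ _ (by
    rcases o with _ | r
    · exact (pow_mem e0.2 j).1
    · show (e0 : G) ^ j • ι r • b = ι (sc φ (μ ^ j) r) • b
      have h1 : ι (sc φ (μ ^ j) r) = (e0 : G) ^ j * ι r * ((e0 : G) ^ j)⁻¹ := by
        rw [← hξ j (C.symm r)]
        show ((C.symm _ : H) : G) = _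
        congr 1
        rw [Equiv.symm_apply_eq, hCξj, C.apply_symm_apply]
      rw [h1, mul_smul, mul_smul, inv_smul_eq_iff.2 (show (e0 : G) ^ j • b = b from (pow_mem e0.2 j).2).symm])
  have hsurj : ∀ l : F, l ≠ 0 → ∃ j, μ ^ j = l := by
    intro l hl
    have hμ0 : μ ≠ 0 := fun h => by
      have := pow_orderOf_eq_one μ
      rw [hμ, h, zero_pow (by have := K.four_le; omega)] at this
      exact zero_ne_one this
    let g : Fin (2 ^ m - 1) → {x : F // x ≠ 0} := fun j => ⟨μ ^ (j : ℕ), pow_ne_zero _ hμ0⟩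
    have hg : Function.Bijective g := (Nat.bijective_iff_injective_and_card g).2
      ⟨fun j k e => Fin.ext (pow_injOn_Iio_orderOf (show (j : ℕ) < orderOf μ by rw [hμ]; exact j.2)
        (show (k : ℕ) < orderOf μ by rw [hμ]; exact k.2) (congrArg Subtype.val e)), by
        rw [Nat.card_fin, Nat.card_eq_fintype_card, Fintype.card_subtype_compl, Fintype.card_subtype_eq,
          ← Nat.card_eq_fintype_card, hF]⟩
    obtain ⟨j, hj⟩ := hg.2 ⟨l, hl⟩
    exact ⟨j, congrArg Subtype.val hj⟩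
  -- the involution
  have hz : orderOf (ι (0, 1)) = 2 := by
    refine orderOf_eq_prime ?_ fun h => ?_
    · rw [pow_two, hιmul, ← hι0]
      congr 1
      simp [pm, add_self']
    · rw [← hι0] at h
      exact one_ne_zero (congrArg Prod.snd (C.symm.injective (Subtype.ext h)))
  obtain ⟨w, c, hw2, hwa, hwb, hc, hrel, hwE⟩ := exists_normal_swap K (hιH (0, 1)) hz
  obtain ⟨⟨α, γ⟩, rfl⟩ : ∃ p, ι p = c := ⟨C ⟨c, hc⟩, by rw [hιdef]; simp⟩
  set W := act w with hW
  have hWW : ∀ o, W (W o) = o := fun o => by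
    rw [hW, ← Equiv.Perm.mul_apply, ← map_mul, hw2, map_one]; rfl
  have hWinv : ∀ g o, act g⁻¹ o = (act g).symm o := fun g o => by rw [map_inv]; rfl
  have top : W none = some (0, 0) := hact' _ _ _ (by
    show w • a = ι (0, 0) • b
    rw [hι0, one_smul, hwa])
  have base : W (some (0, 1)) = some (α, γ) := hact' _ _ _ (by
    show w • ι (0, 1) • b = ι (α, γ) • b
    have h1 := congrArg (fun g => g • a) hrel
    simp only [mul_smul] at h1
    rw [hwa, inv_smul_eq_iff.2 (show ι (α, γ) • a = a from K.le (hιH _)).symm, hwa] at h1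
    exact h1)
  have equiv : ∀ l : F, l ≠ 0 → ∀ o, W (Option.map (sc φ l) o) = Option.map (sc φ l⁻¹) (W o) := by
    intro l hl o
    obtain ⟨j, rfl⟩ := hsurj l hl
    have h1 : ∀ o, Option.map (sc φ (μ ^ j)⁻¹) o = act ((e0 : G) ^ j)⁻¹ o := by
      intro o
      rw [hWinv, Equiv.eq_symm_apply, he]
      rcases o with _ | r
      · rfl
      · simp [sc_sc, mul_inv_cancel₀ hl, sc_one]
    rw [h1, ← he, hW, ← Equiv.Perm.mul_apply, ← map_mul, hwE _ (pow_mem e0.2 j), map_mul]
    rfl
  have hcinv : (ι (α, γ))⁻¹ = ι (α, γ + φ α * α) := by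
    refine inv_eq_of_mul_eq_one_right ?_
    rw [hιmul, ← hι0]
    congr 1
    have two0 : (2 : F) = 0 := CharTwo.two_eq_zero
    simp only [pm, Prod.mk.injEq]
    exact ⟨add_self' _, by linear_combination (γ + φ α * α) * two0⟩
  have rel : ∀ o, W (Option.map (pm φ (0, 1)) (W o)) =
      Option.map (pm φ (α, γ)) (W (Option.map (pm φ (α, γ + φ α * α)) o)) := by
    intro o
    rw [← pmPerm_apply, ← pmPerm_apply, ← pmPerm_apply, ← hu, ← hu, ← hu, hW, ← hcinv, ← Equiv.Perm.mul_apply,
      ← Equiv.Perm.mul_apply, ← Equiv.Perm.mul_apply, ← Equiv.Perm.mul_apply, ← map_mul, ← map_mul, ← map_mul,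
      ← map_mul, hrel]
  have hα : α ≠ 0 := by
    intro h0
    subst h0
    have h1 := rel (some (0, 0))
    have hW0 : W (some (0, 0)) = none := by rw [← top, hWW]
    rw [hW0, Option.map_none, top, Option.map_some,
      show pm φ (0, γ + φ 0 * 0) (0, 0) = (0, γ) by simp [pm]] at h1
    have hfix : W (some (0, γ)) = some (0, γ) := by
      rcases e : W (some (0, γ)) with _ | ⟨x, y⟩
      · rw [e] at h1; simp at h1
      · rw [e] at h1
        simp only [Option.map_some, Option.some.injEq, pm, map_zero, zero_mul, add_zero, zero_add,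
          Prod.mk.injEq] at h1
        rw [← h1.1, show y = γ from (CharTwo.add_eq_zero.1 h1.2.symm).symm]
    have hγ : ((0 : F), γ) = (0, 1) := Option.some.inj (by
      rw [← hfix, ← base, hWW])
    rw [hγ] at hrel
    set z := ι (0, 1) with hzdef
    have hzz : z⁻¹ = z := inv_eq_of_mul_eq_one_right (by rw [← pow_two, ← hz, pow_orderOf_eq_one])
    have h3 : (w * z) ^ 3 = 1 := by
      rw [pow_succ, pow_two]
      calc w * z * (w * z) * (w * z) = (w * z * w) * (z * w * z) := by group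
        _ = z * w * z⁻¹ * (z * w * z) := by rw [hrel]
        _ = z * (w * w) * z := by group
        _ = 1 := by
          rw [hw2, mul_one]
          nth_rw 1 [← hzz]
          rw [inv_mul_cancel]
    rcases (Nat.dvd_prime Nat.prime_three).1 (orderOf_dvd_of_pow_eq_one h3) with h4 | h4
    · have h5 : w = z := by
        rw [orderOf_eq_one_iff, mul_eq_one_iff_eq_inv, hzz] at h4
        exact h4
      exact K.ne ((show z • a = a from K.le (hιH _)).symm.trans (h5 ▸ hwa))
    · exact kern_not_three_dvd K (h4 ▸ orderOf_dvd_natCard _)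
  obtain rfl : α = 1 := alpha_eq_one hα top hWW equiv base rel
  refine ⟨φ, i, γ, hi0, hi, hφ, ⟨⟨act, ?_, W, ⟨top, hWW, equiv, base, ?_⟩, ?_⟩⟩⟩
  · exact pt.symm.permCongrHom.injective.comp MulAction.toPerm_injective
  · intro o
    have := rel o
    rwa [map_one, one_mul] at this
  · have hset : act '' insert w (H : Set G) = insert W (Set.range (pmPerm φ)) := by
      rw [Set.image_insert_eq, ← hW]
      congr 1
      ext g
      constructor
      · rintro ⟨x, hx, rfl⟩
        exact ⟨C ⟨x, hx⟩, by rw [← hu, hιdef]; simp⟩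
      · rintro ⟨p, rfl⟩
        exact ⟨ι p, hιH p, hu p⟩
    rw [MonoidHom.range_eq_map, ← kern_generate K hw2 hwa hwE, MonoidHom.map_closure, hset]

/-- Two such groups with the same kernel order `q² ∈ {64, 1024}` are isomorphic. -/
theorem nonempty_mulEquiv_of_kern {G' : Type*} [Group G'] [Finite G'] {Ω' : Type*} [MulAction G' Ω'] [Fintype Ω']
    [IsSimpleGroup G'] {H' : Subgroup G'} {a' b' : Ω'} (K : Kern H a b m) (K' : Kern H' a' b' m)
    (hm : m = 3 ∨ m = 5) : Nonempty (G ≃* G') := by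
  haveI := Fact.mk Nat.prime_two
  have hm0 : m ≠ 0 := by omega
  have hF : Nat.card (GaloisField 2 m) = 2 ^ m := GaloisField.card 2 m hm0
  obtain ⟨φ, i, β, hi0, hi, hφ, ⟨A⟩⟩ := exists_frame K (GaloisField 2 m) hF
  obtain ⟨φ', j, β', hj0, hj, hφ', ⟨B⟩⟩ := exists_frame K' (GaloisField 2 m) hF
  exact nonempty_mulEquiv_of_frames hm hF hi0 hi hj0 hj hφ hφ' A B

end CfsgLib.CIT.SuzukiRecog
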