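import Cfsg.Agent.Lib.CIT.SuzukiRecog.Extract
import Cfsg.Agent.Lib.CIT.Simple
import Cfsg.Agent.Lib.CIT.CN
import Cfsg.Agent.Lib.Lie.Suzuki.Group
import Cfsg.Agent.S0324
import Cfsg.Agent.S0325
import Cfsg.Agent.S0332

/-!
# `Sz(8)` and `Sz(32)` among the simple CIT groups
-/

set_option autoImplicit false
set_option linter.all false

open Cfsg

namespace CfsgLib.CIT.SuzukiRecog

open CfsgLib.PGroups.SuzukiZass (Kern)

theorem three_dvd_psl_two {F : Type} [Field F] [Fintype F] :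
    3 ∣ Nat.card (Matrix.ProjectiveSpecialLinearGroup (Fin 2) F) := by
  classical
  have h := CfsgLib.Classical.Dickson.gcd_mul_card_psl (F := F) (q := Fintype.card F) rfl
  set q := Fintype.card F
  have hg : Nat.Coprime 3 (Nat.gcd 2 (q - 1)) := by
    rcases (Nat.dvd_prime Nat.prime_two).1 (Nat.gcd_dvd_left 2 (q - 1)) with e | e <;> rw [e] <;> decide
  refine hg.dvd_of_dvd_mul_left ?_
  rw [h]
  rcases (show q % 3 = 0 ∨ q % 3 = 1 ∨ q % 3 = 2 by omega) with e | e | e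
  · exact Dvd.dvd.mul_right (Nat.dvd_of_mod_eq_zero e) _
  all_goals
    refine Dvd.dvd.mul_left ?_ _
    have h2 : q ^ 2 % 3 = 1 := by rw [Nat.pow_mod, e]
    omega

theorem card_psl_three_four {F : Type} [Field F] [Fintype F] (hF : Fintype.card F = 4) :
    Nat.card (Matrix.ProjectiveSpecialLinearGroup (Fin 3) F) = 20160 := by
  classical
  have h1 := CfsgLib.Classical.card_SL (F := F) 3 (by norm_num)
  have h3 := CfsgLib.Classical.card_SL_eq_gcd_mul_card_PSL (F := F) (ι := Fin 3)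
  rw [hF, Fintype.card_fin, show Nat.gcd 3 (4 - 1) = 3 from rfl] at h3
  rw [hF, Fin.prod_univ_three, h3] at h1
  norm_num [-Nat.card_eq_fintype_card] at h1
  omega

variable {G : Type*} [Group G] [Finite G] [IsSimpleGroup G]

/-- A simple CIT group of order prime to three acts as a Zassenhaus group with a nonabelian kernel. -/
theorem exists_kern_cit (hna : ¬ IsMulCommutative G) (hC : CIT G) (h2 : 2 ∣ Nat.card G)
    (h3 : ¬ 3 ∣ Nat.card G) :
    ∃ (T H : Subgroup G) (a b : G ⧸ Subgroup.normalizer (T : Set G)) (m : ℕ),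
      @Kern G (G ⧸ Subgroup.normalizer (T : Set G)) _ _ (Fintype.ofFinite _) H a b m := by
  have hTI : TISylow G := by
    by_contra hTI
    have hL := localTI hC
    obtain ⟨T, W, A, q, h⟩ := exists_pair hC (simple_noCore hna) hL hTI
    have hq4 := h.q_le_four hC hL
    have hq1 := h.left.one_lt
    obtain ⟨j, hj⟩ := (h.left.syl.2.1.to_le (inf_le_left.trans h.le_T.2 : A ⊓ W ≤ T)).exists_card_eq
    rw [h.card_inter] at hj
    obtain rfl | rfl : q = 2 ∨ q = 4 := by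
      have : q ≠ 3 := fun e => by
        rcases Nat.eq_zero_or_pos j with rfl | hpos
        · norm_num at hj; omega
        · have : 2 ∣ q := hj ▸ dvd_pow_self 2 hpos.ne'
          omega
      omega
    · obtain ⟨F, iF, iFt, -, ⟨e⟩⟩ := simple_pair_two hna hC h
      exact h3 (Nat.card_congr e.toEquiv ▸ three_dvd_psl_two)
    · obtain ⟨F, iF, iFt, hF, ⟨e⟩⟩ := Four.isPSLThreeFour ⟨hC, hL, h, h.sylow_of_simple hna hC hL⟩
      rw [Nat.card_congr e.toEquiv, card_psl_three_four hF] at h3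
      exact h3 (by norm_num)
  obtain ⟨T, hZ⟩ := simple_ti_zassenhaus hna hC h2 hTI
  letI := Fintype.ofFinite (G ⧸ Subgroup.normalizer (T : Set G))
  rcases CfsgLib.PGroups.SuzukiZass.classify_kern hZ with ⟨F, iF, iFt, ⟨e⟩⟩ | ⟨H, a, b, m, K⟩
  · exact absurd (Nat.card_congr e.toEquiv ▸ three_dvd_psl_two) h3
  · exact ⟨T, H, a, b, m, K⟩

theorem log_eq {q m n : ℕ} (hq : q = 2 ^ m) (hn : 1 ≤ n) (hm : 1 ≤ m)
    (h : (q ^ 2 + 1) * (q ^ 2 * (q - 1)) = (2 ^ n) ^ 2 * ((2 ^ n) ^ 2 + 1) * (2 ^ n - 1)) : m = n := by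
  subst hq
  have key : ∀ a b : ℕ, a < b → 1 ≤ a →
      ((2 ^ a) ^ 2 + 1) * ((2 ^ a) ^ 2 * (2 ^ a - 1)) < ((2 ^ b) ^ 2 + 1) * ((2 ^ b) ^ 2 * (2 ^ b - 1)) := by
    intro a b hab ha
    have h1 : 2 ^ a < 2 ^ b := Nat.pow_lt_pow_right one_lt_two hab
    have h2 : (2 ^ a) ^ 2 < (2 ^ b) ^ 2 := Nat.pow_lt_pow_left h1 two_ne_zero
    have h3 : 2 ≤ 2 ^ a := Nat.le_self_pow (by omega) 2
    exact Nat.mul_lt_mul_of_lt_of_lt (by omega) (Nat.mul_lt_mul_of_lt_of_lt h2 (by omega))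
  rcases lt_trichotomy m n with hlt | heq | hgt
  · have := key m n hlt hm
    rw [h] at this
    exfalso
    nlinarith
  · exact heq
  · have := key n m hgt hn
    rw [h] at this
    exfalso
    nlinarith

/-- Simple CIT groups of the orders of `Sz(8)` and `Sz(32)` are these groups. -/
theorem nonempty_mulEquiv_sz (hna : ¬ IsMulCommutative G) (hC : CIT G) {F : Type} [Field F] [Fintype F] {k : ℕ}
    (hk : k = 1 ∨ k = 2) (hF : Fintype.card F = 2 ^ (2 * k + 1))
    (hG : Nat.card G = (2 ^ (2 * k + 1)) ^ 2 * ((2 ^ (2 * k + 1)) ^ 2 + 1) * (2 ^ (2 * k + 1) - 1)) :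
    Nonempty (G ≃* Cfsg.Lie.Sz F (2 ^ (k + 1))) := by
  have hk1 : 1 ≤ k := by omega
  haveI : CharP F 2 := CfsgLib.Lie.Suzuki.charTwo_of_card hF
  have hS := Cfsg.Agent.S0324.result hk1 hF
  haveI : IsSimpleGroup (Cfsg.Sz F k) := Cfsg.Agent.S0325.result hk1 hF
  haveI : Finite (Cfsg.Sz F k) := Nat.finite_of_card_ne_zero (by
    rw [hS]; rcases hk with rfl | rfl <;> norm_num)
  have h23 : ∀ N : ℕ, N = (2 ^ (2 * k + 1)) ^ 2 * ((2 ^ (2 * k + 1)) ^ 2 + 1) * (2 ^ (2 * k + 1) - 1) →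
      2 ∣ N ∧ ¬ 3 ∣ N := by
    rintro _ rfl
    rcases hk with rfl | rfl <;> norm_num
  obtain ⟨hG2, hG3⟩ := h23 _ hG
  obtain ⟨hS2, hS3⟩ := h23 _ hS
  have hna' : ¬ IsMulCommutative (Cfsg.Sz F k) := by
    intro h
    letI : CommGroup (Cfsg.Sz F k) :=
      { (inferInstance : Group (Cfsg.Sz F k)) with mul_comm := fun a b => h.is_comm.comm a b }
    have hp : (Nat.card (Cfsg.Sz F k)).Prime := IsSimpleGroup.prime_card
    rw [hS] at hp
    rcases hk with rfl | rfl <;> norm_num at hp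
  obtain ⟨hCS, -⟩ := cn_simple hna' (Cfsg.Agent.S0332.result hk1 hF)
  obtain ⟨T, H, a, b, m, K⟩ := exists_kern_cit hna hC hG2 hG3
  obtain ⟨T', H', a', b', m', K'⟩ := exists_kern_cit hna' hCS hS2 hS3
  letI := Fintype.ofFinite (G ⧸ Subgroup.normalizer (T : Set G))
  letI := Fintype.ofFinite (Cfsg.Sz F k ⧸ Subgroup.normalizer (T' : Set (Cfsg.Sz F k)))
  have hm : m = 2 * k + 1 := by
    refine log_eq (q := 2 ^ m) rfl (by omega) (le_trans one_le_two K.two_le) ?_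
    rw [← hG, K.card_eq, K.card_sq]
    congr 2
    have := K.card_two_stab
    omega
  have hm' : m' = 2 * k + 1 := by
    refine log_eq (q := 2 ^ m') rfl (by omega) (le_trans one_le_two K'.two_le) ?_
    rw [← hS, K'.card_eq, K'.card_sq]
    congr 2
    have := K'.card_two_stab
    omega
  subst hm hm'
  obtain ⟨e⟩ := nonempty_mulEquiv_of_kern K K' (by omega)
  exact ⟨e.trans (CfsgLib.Lie.Suzuki.equivLie hk1 hF)⟩

end CfsgLib.CIT.SuzukiRecog
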