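import Cfsg.Agent.Lib.CIT.SuzukiRecog.Params
import Cfsg.Agent.Lib.CIT.SuzukiRecog.Extract
import Cfsg.Agent.Lib.CIT.SuzukiRecog.Iso
import Cfsg.Agent.S0327
import Cfsg.Agent.S0324
import Cfsg.Agent.S0325
import Cfsg.Prelude.Def_Sz

/-!
# Uniqueness of the Suzuki groups

A simple Zassenhaus group with a nonabelian 2-group as point kernel is a Suzuki group, as an abstract group.
-/

set_option autoImplicit false
set_option linter.all false

open Cfsg

namespace CfsgLib.CIT.SuzukiRecog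

open CfsgLib.PGroups.SuzukiZass (Kern)

section frames

variable {F : Type*} [Field F] [CharP F 2] [Finite F] {φ : F ≃+* F} {β : F}

/-- The possible parameters, in every size. -/
theorem allowed_odd {n i : ℕ} (hn : 3 ≤ n) (hodd : Odd n) (hF : Nat.card F = 2 ^ n) (hi0 : i ≠ 0) (hi : i < n)
    (hφ : ∀ x, φ x = x ^ 2 ^ i) {W : Option (F × F) → Option (F × F)} (h : Sol φ β W) :
    (2 * i + 1 = n ∧ β = 1) ∨ (2 * i = n + 1 ∧ β = 0) := by
  haveI := Fintype.ofFinite F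
  by_cases h7 : 7 ≤ n
  · exact allowed_large h7 hodd hF hi0 hi hφ h
  · refine allowed_small ?_ hF hi0 hi hφ h
    obtain ⟨d, rfl⟩ := hodd
    omega

/-- Frames normalise to the Tits endomorphism and `β = 0`. -/
theorem Frame.normalise_odd {G : Type*} [Group G] {n i : ℕ} (hn : 3 ≤ n) (hodd : Odd n) (hF : Nat.card F = 2 ^ n)
    (hi0 : i ≠ 0) (hi : i < n) (hφ : ∀ x, φ x = x ^ 2 ^ i) (A : Frame G φ β) :
    ∃ ψ : F ≃+* F, (∀ x, ψ x = x ^ 2 ^ ((n + 1) / 2)) ∧ Nonempty (Frame G ψ 0) := by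
  haveI := Fintype.ofFinite F
  rcases allowed_odd hn hodd hF hi0 hi hφ A.sol with ⟨e, rfl⟩ | ⟨e, rfl⟩
  · refine ⟨φ.symm, fun x => ?_, ?_⟩
    · rw [RingEquiv.symm_apply_eq, hφ, ← pow_mul, ← pow_add, show (n + 1) / 2 + i = n by omega, ← hF,
        Nat.card_eq_fintype_card, FiniteField.pow_card]
    · simpa [add_self'] using A.flip
  · exact ⟨φ, fun x => by rw [hφ, show (n + 1) / 2 = i by omega], ⟨A⟩⟩

/-- Uniqueness over every field of `2ⁿ` elements, `n` odd. -/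
theorem nonempty_mulEquiv_of_frames_odd {G G' : Type*} [Group G] [Group G'] {n i j : ℕ}
    (hn : 3 ≤ n) (hodd : Odd n) (hF : Nat.card F = 2 ^ n) (hi0 : i ≠ 0) (hi : i < n) (hj0 : j ≠ 0) (hj : j < n)
    {φ' : F ≃+* F} {β' : F} (hφ : ∀ x, φ x = x ^ 2 ^ i) (hφ' : ∀ x, φ' x = x ^ 2 ^ j)
    (A : Frame G φ β) (B : Frame G' φ' β') : Nonempty (G ≃* G') := by
  obtain ⟨ψ, hψ, ⟨A'⟩⟩ := A.normalise_odd hn hodd hF hi0 hi hφ
  obtain ⟨ψ', hψ', ⟨B'⟩⟩ := B.normalise_odd hn hodd hF hj0 hj hφ'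
  obtain rfl : ψ' = ψ := RingEquiv.ext fun x => by rw [hψ, hψ']
  exact A'.nonempty_mulEquiv B' (nrm_surjective (exps_of_odd hodd) hF (i := (n + 1) / 2) (by omega) hψ)
    (no_cube_root (exps_of_odd hodd) (by omega) hF)

end frames

variable {G : Type*} {Ω : Type*} [Group G] [Finite G] [MulAction G Ω] [Fintype Ω] [IsSimpleGroup G]
  {H : Subgroup G} {a b : Ω} {m : ℕ}

/-- The logarithm of the centre order is odd and at least three. -/
theorem kern_log (K : Kern H a b m) : Odd m ∧ 3 ≤ m := by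
  obtain ⟨k, hk⟩ := K.odd_log K.card_sq
  exact ⟨⟨k, hk⟩, by have := K.two_le; omega⟩

/-- Two simple Zassenhaus groups with kernels of the same order `q²` are isomorphic. -/
theorem nonempty_mulEquiv_of_kern_odd {G' : Type*} {Ω' : Type*} [Group G'] [Finite G'] [MulAction G' Ω']
    [Fintype Ω'] [IsSimpleGroup G'] {H' : Subgroup G'} {a' b' : Ω'} (K : Kern H a b m) (K' : Kern H' a' b' m) :
    Nonempty (G ≃* G') := by
  haveI := Fact.mk Nat.prime_two
  obtain ⟨hodd, hm⟩ := kern_log K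
  have hF : Nat.card (GaloisField 2 m) = 2 ^ m := GaloisField.card 2 m (by omega)
  obtain ⟨φ, i, β, hi0, hi, hφ, ⟨A⟩⟩ := exists_frame K (GaloisField 2 m) hF
  obtain ⟨φ', j, β', hj0, hj, hφ', ⟨B⟩⟩ := exists_frame K' (GaloisField 2 m) hF
  exact nonempty_mulEquiv_of_frames_odd hm hodd hF hi0 hi hj0 hj hφ hφ' A B

/-- A simple Zassenhaus group with a nonabelian 2-group as point kernel is `Sz(q)`. -/
theorem nonempty_mulEquiv_sz_of_kern (K : Kern H a b m) {F : Type*} [Field F] [Fintype F] {k : ℕ}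
    (hk : 1 ≤ k) (hm : m = 2 * k + 1) (hF : Fintype.card F = 2 ^ (2 * k + 1)) :
    Nonempty (G ≃* Cfsg.Lie.Sz F (2 ^ (k + 1))) := by
  haveI : CharP F 2 := CfsgLib.Lie.Suzuki.charTwo_of_card hF
  haveI : IsSimpleGroup (Cfsg.Sz F k) := Cfsg.Agent.S0325.result hk hF
  have hS := Cfsg.Agent.S0324.result hk hF
  have hZ := Cfsg.Agent.S0327.result hk hF
  haveI : Finite (Cfsg.Sz F k) := Subtype.finite
  letI := Fintype.ofFinite (Cfsg.suzukiOvoid F k)
  have h3 : ¬ 3 ∣ Nat.card (Cfsg.Sz F k) := by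
    rw [hS]
    have hq : 2 ^ (2 * k + 1) % 3 = 2 := by
      rw [pow_succ, pow_mul, Nat.mul_mod, Nat.pow_mod]
      norm_num
    have h1 : 1 ≤ 2 ^ (2 * k + 1) := Nat.one_le_two_pow
    generalize 2 ^ (2 * k + 1) = q at *
    intro h
    have e1 : q ^ 2 % 3 = 1 := by rw [Nat.pow_mod, hq]
    have e2 : (q ^ 2 + 1) % 3 = 2 := by omega
    have e3 : (q - 1) % 3 = 1 := by omega
    have : q ^ 2 * (q ^ 2 + 1) * (q - 1) % 3 = 2 := by
      rw [Nat.mul_mod, Nat.mul_mod (q ^ 2), e1, e2, e3]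
    omega
  rcases CfsgLib.PGroups.SuzukiZass.classify_kern hZ with ⟨F', iF, iFt, ⟨e⟩⟩ | ⟨H', a', b', m', K'⟩
  · exact absurd (Nat.card_congr e.toEquiv ▸ three_dvd_psl_two) h3
  · obtain ⟨k', hk'⟩ := K'.odd_log K'.card_sq
    have hm' : m' = 2 * k + 1 := by
      refine log_eq (q := 2 ^ m') rfl (by omega) (le_trans one_le_two K'.two_le) ?_
      rw [← hS, K'.card_eq, K'.card_sq]
      congr 2
      have := K'.card_two_stab
      omega
    subst hm' hm
    obtain ⟨e⟩ := nonempty_mulEquiv_of_kern_odd K K'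
    exact ⟨e.trans (CfsgLib.Lie.Suzuki.equivLie hk hF)⟩

/-- A simple Zassenhaus group with a nonabelian 2-group as point kernel is a Suzuki group. -/
theorem isoSuzuki_of_kern (K : Kern H a b m) : Cfsg.Lie.IsoSuzuki G := by
  haveI := Fact.mk Nat.prime_two
  obtain ⟨⟨k, hk⟩, hm⟩ := kern_log K
  letI : Fintype (GaloisField 2 m) := Fintype.ofFinite _
  have hF : Fintype.card (GaloisField 2 m) = 2 ^ (2 * k + 1) := by
    rw [← Nat.card_eq_fintype_card, GaloisField.card 2 m (by omega), hk]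
  exact ⟨GaloisField 2 m, inferInstance, inferInstance, k, by omega, hF,
    nonempty_mulEquiv_sz_of_kern K (by omega) hk hF⟩

omit [Fintype Ω] in
/-- The classification of simple Zassenhaus groups up to isomorphism. -/
theorem zassenhaus_iso [Finite Ω] (hZ : Cfsg.IsZassenhausGroup G Ω) :
    (∃ (F : Type) (_ : Field F) (_ : Fintype F), Nonempty (G ≃* Matrix.ProjectiveSpecialLinearGroup (Fin 2) F)) ∨
      Cfsg.Lie.IsoSuzuki G := by
  haveI := Fintype.ofFinite Ω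
  exact (CfsgLib.PGroups.SuzukiZass.classify_kern hZ).imp_right fun ⟨_, _, _, _, K⟩ => isoSuzuki_of_kern K

end CfsgLib.CIT.SuzukiRecog
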