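import Mathlib

/-!
# Fields of `2ⁿ` elements, `n ≤ 5`, in binary codes

A number `a < 2ⁿ` stands for `∑ bitᵢ(a) rⁱ`, where `r` is a root of the polynomial coded by `P`.
-/

set_option autoImplicit false
set_option linter.all false

namespace CfsgLib.CIT.SuzukiRecog

/-- Multiplication by the root. -/
def dbl (n P a : ℕ) : ℕ := if a < 2 ^ (n - 1) then 2 * a else (2 * a) ^^^ P

/-- Multiplication by the `k` low bits. -/
def cmul (n P : ℕ) : ℕ → ℕ → ℕ → ℕ
  | 0, _, _ => 0
  | k + 1, a, b => (if b % 2 = 1 then a else 0) ^^^ cmul n P k (dbl n P a) (b / 2)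

/-- Product of codes. -/
def cm (n P a b : ℕ) : ℕ := cmul n P n a b

/-- Iterated square of a code. -/
def cfr (n P : ℕ) : ℕ → ℕ → ℕ
  | 0, a => a
  | i + 1, a => cfr n P i (cm n P a a)

/-- Power of a code. -/
def cpow (n P : ℕ) : ℕ → ℕ → ℕ
  | 0, _ => 1
  | k + 1, a => cm n P a (cpow n P k a)

/-- Inverse of a code. -/
def cinv (n P a : ℕ) : ℕ := cpow n P (2 ^ n - 2) a

/-- Norm of a code. -/
def cnrm (n P i a : ℕ) : ℕ := cm n P a (cfr n P i a)

variable {F : Type*} [Field F]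

/-- The value of a code. -/
def ev (r : F) (a : ℕ) : F := ∑ i ∈ Finset.range 6, if a.testBit i then r ^ i else 0

theorem ev_zero (r : F) : ev r 0 = 0 := by simp [ev]

theorem ev_xor [CharP F 2] (r : F) (a b : ℕ) : ev r (a ^^^ b) = ev r a + ev r b := by
  rw [ev, ev, ev, ← Finset.sum_add_distrib]
  refine Finset.sum_congr rfl fun i _ => ?_
  rw [Nat.testBit_xor]
  cases a.testBit i <;> cases b.testBit i <;> simp [CharTwo.add_self_eq_zero]

theorem ev_succ (r : F) {b : ℕ} (hb : b < 64) :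
    ev r b = (if b % 2 = 1 then 1 else 0) + r * ev r (b / 2) := by
  have h5 : (b / 2).testBit 5 = false := Nat.testBit_lt_two_pow (show b / 2 < 2 ^ 5 by omega)
  simp only [ev]
  rw [Finset.sum_range_succ' (fun i => if b.testBit i then r ^ i else 0) 5, Finset.sum_range_succ _ 5, h5]
  simp only [Bool.false_eq_true, if_false, add_zero, Finset.mul_sum, pow_zero, Nat.testBit_zero,
    decide_eq_true_eq]
  rw [add_comm]
  congr 1
  refine Finset.sum_congr rfl fun i _ => ?_
  rw [Nat.testBit_succ]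
  split_ifs <;> simp [pow_succ']

theorem ev_one (r : F) : ev r 1 = 1 := by
  rw [ev_succ r (show 1 < 64 by norm_num)]
  simp [ev_zero]

/-- `P` codes an irreducible polynomial of degree `n` with root `r`. -/
structure Model (F : Type*) [Field F] (n P : ℕ) (r : F) : Prop where
  two_le : 2 ≤ n
  le : n ≤ 5
  card : Nat.card F = 2 ^ n
  root : ev r P = 0
  dbl_lt : (List.range (2 ^ n)).all (fun a => dbl n P a < 2 ^ n) = true
  inv : (List.range (2 ^ n)).all (fun a => a = 0 || cm n P a (cinv n P a) = 1) = true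

namespace Model

variable [CharP F 2] {n P : ℕ} {r : F} (h : Model F n P r)
include h

theorem lt64 {a : ℕ} (ha : a < 2 ^ n) : 2 * a < 64 := by
  have := Nat.pow_le_pow_right two_pos h.le
  omega

theorem dbl_spec {a : ℕ} (ha : a < 2 ^ n) : dbl n P a < 2 ^ n ∧ ev r (dbl n P a) = r * ev r a := by
  refine ⟨by simpa using List.all_eq_true.1 h.dbl_lt a (List.mem_range.2 ha), ?_⟩
  have h2 : ev r (2 * a) = r * ev r a := by
    rw [ev_succ r (h.lt64 ha), Nat.mul_mod_right, Nat.mul_div_cancel_left _ two_pos]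
    simp
  unfold dbl
  split_ifs
  · exact h2
  · rw [ev_xor, h.root, add_zero, h2]

theorem cmul_spec : ∀ k a b, k ≤ n → a < 2 ^ n → b < 2 ^ k →
    cmul n P k a b < 2 ^ n ∧ ev r (cmul n P k a b) = ev r a * ev r b := by
  intro k
  induction k with
  | zero =>
    intro a b _ _ hb
    obtain rfl : b = 0 := by simpa using hb
    exact ⟨Nat.two_pow_pos n, by simp [cmul, ev_zero]⟩
  | succ k ih =>
    intro a b hk ha hb
    have hb64 : b < 64 := lt_of_lt_of_le hb (Nat.pow_le_pow_right two_pos (show k + 1 ≤ 6 by have := h.le; omega))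
    obtain ⟨hd, hd'⟩ := h.dbl_spec ha
    obtain ⟨h1, h2⟩ := ih (dbl n P a) (b / 2) (by omega) hd (by rw [pow_succ] at hb; omega)
    unfold cmul
    refine ⟨Nat.xor_lt_two_pow (by split_ifs <;> [exact ha; exact Nat.two_pow_pos n]) h1, ?_⟩
    rw [ev_xor, h2, hd', ev_succ r hb64]
    split_ifs
    · ring
    · rw [ev_zero]; ring

theorem cm_lt {a b : ℕ} (ha : a < 2 ^ n) (hb : b < 2 ^ n) : cm n P a b < 2 ^ n :=
  (h.cmul_spec n a b le_rfl ha hb).1

theorem ev_cm {a b : ℕ} (ha : a < 2 ^ n) (hb : b < 2 ^ n) : ev r (cm n P a b) = ev r a * ev r b :=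
  (h.cmul_spec n a b le_rfl ha hb).2

theorem one_lt : 1 < 2 ^ n := Nat.one_lt_two_pow (by have := h.two_le; omega)

theorem cpow_spec {a : ℕ} (ha : a < 2 ^ n) : ∀ k, cpow n P k a < 2 ^ n ∧ ev r (cpow n P k a) = ev r a ^ k := by
  intro k
  induction k with
  | zero => exact ⟨h.one_lt, by simp [cpow, ev_one]⟩
  | succ k ih => exact ⟨h.cm_lt ha ih.1, by rw [cpow, h.ev_cm ha ih.1, ih.2, pow_succ']⟩

theorem cfr_spec : ∀ i a, a < 2 ^ n → cfr n P i a < 2 ^ n ∧ ev r (cfr n P i a) = ev r a ^ 2 ^ i := by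
  intro i
  induction i with
  | zero => exact fun a ha => ⟨ha, by simp [cfr]⟩
  | succ i ih =>
    intro a ha
    obtain ⟨h1, h2⟩ := ih (cm n P a a) (h.cm_lt ha ha)
    refine ⟨h1, ?_⟩
    rw [cfr, h2, h.ev_cm ha ha, ← pow_two, ← pow_mul, ← pow_succ']

theorem cnrm_spec (i : ℕ) {a : ℕ} (ha : a < 2 ^ n) :
    cnrm n P i a < 2 ^ n ∧ ev r (cnrm n P i a) = ev r a ^ (1 + 2 ^ i) := by
  obtain ⟨h1, h2⟩ := h.cfr_spec i a ha
  exact ⟨h.cm_lt ha h1, by rw [cnrm, h.ev_cm ha h1, h2, pow_add, pow_one]⟩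

theorem cinv_lt {a : ℕ} (ha : a < 2 ^ n) : cinv n P a < 2 ^ n := (h.cpow_spec ha _).1

theorem ev_cinv [Finite F] {a : ℕ} (ha : a < 2 ^ n) : ev r (cinv n P a) = (ev r a)⁻¹ := by
  haveI := Fintype.ofFinite F
  rw [cinv, (h.cpow_spec ha _).2]
  have h4 := h.one_lt
  have h2 : 2 ^ 2 ≤ 2 ^ n := Nat.pow_le_pow_right two_pos h.two_le
  by_cases h0 : ev r a = 0
  · rw [h0, inv_zero, zero_pow (by omega)]
  · refine eq_inv_of_mul_eq_one_left ?_
    rw [← pow_succ, show 2 ^ n - 2 + 1 = Fintype.card F - 1 by rw [← Nat.card_eq_fintype_card, h.card]; omega]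
    exact FiniteField.pow_card_sub_one_eq_one _ h0

theorem ev_inj {a b : ℕ} (ha : a < 2 ^ n) (hb : b < 2 ^ n) (e : ev r a = ev r b) : a = b := by
  by_contra hne
  have hc : a ^^^ b < 2 ^ n := Nat.xor_lt_two_pow ha hb
  have h1 := List.all_eq_true.1 h.inv (a ^^^ b) (List.mem_range.2 hc)
  simp only [Bool.or_eq_true, decide_eq_true_eq, Nat.xor_eq_zero_iff] at h1
  rcases h1 with h1 | h1
  · exact hne h1
  · have h2 := congrArg (ev r) h1
    rw [h.ev_cm hc (h.cinv_lt hc), ev_xor, e, CharTwo.add_self_eq_zero, zero_mul, ev_one] at h2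
    exact zero_ne_one h2

theorem ev_surj [Finite F] (x : F) : ∃ a, a < 2 ^ n ∧ ev r a = x := by
  let f : Fin (2 ^ n) → F := fun a => ev r a
  have hf : Function.Bijective f := (Nat.bijective_iff_injective_and_card f).2
    ⟨fun a b e => Fin.ext (h.ev_inj a.2 b.2 e), by rw [h.card, Nat.card_fin]⟩
  obtain ⟨a, ha⟩ := hf.2 x
  exact ⟨a, a.2, ha⟩

end Model

/-- Existence of a root. -/
theorem exists_root [Fintype F] {p Q : Polynomial F} {N : ℕ} (hN : Fintype.card F = N + 1)
    (he : p * Q = Polynomial.X ^ N - 1) (hQ : Q.natDegree < N) : ∃ x : F, p.IsRoot x := by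
  classical
  by_contra hno
  push Not at hno
  have hN0 : 0 < N := by omega
  have h0 : (Polynomial.X ^ N - 1 : Polynomial F) ≠ 0 := by
    simpa using Polynomial.X_pow_sub_C_ne_zero hN0 (1 : F)
  have hQ0 : Q ≠ 0 := fun e => h0 (by rw [← he, e, mul_zero])
  have hall : ∀ x : F, x ≠ 0 → Q.IsRoot x := fun x hx => by
    have h1 : (p * Q).IsRoot x := by
      rw [he, Polynomial.IsRoot, Polynomial.eval_sub, Polynomial.eval_pow, Polynomial.eval_X, Polynomial.eval_one,
        show N = Fintype.card F - 1 by omega, FiniteField.pow_card_sub_one_eq_one x hx, sub_self]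
    exact (Polynomial.root_mul.1 h1).resolve_left (hno x)
  have hle : (Finset.univ.erase (0 : F)).card ≤ Q.natDegree := by
    refine le_trans (Finset.card_le_card (t := Q.roots.toFinset) fun x hx => ?_)
      (le_trans (Multiset.toFinset_card_le _) (Polynomial.card_roots' Q))
    rw [Multiset.mem_toFinset, Polynomial.mem_roots hQ0]
    exact hall x (Finset.ne_of_mem_erase hx)
  rw [Finset.card_erase_of_mem (Finset.mem_univ _), Finset.card_univ] at hle
  omega

open Polynomial in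
/-- The field of eight elements. -/
theorem exists_model_eight [Fintype F] [CharP F 2] (hF : Fintype.card F = 8) : ∃ r : F, Model F 3 11 r := by
  have two0 : (2 : Polynomial F) = 0 := CharTwo.two_eq_zero
  obtain ⟨r, hr⟩ := exists_root (p := X ^ 3 + X + 1) (Q := X ^ 4 + X ^ 2 + X + 1) (N := 7) hF
    (by linear_combination (X ^ 5 + X ^ 4 + X ^ 3 + X ^ 2 + X + 1 : Polynomial F) * two0)
    (by compute_degree!)
  refine ⟨r, by norm_num, by norm_num, by rw [Nat.card_eq_fintype_card, hF]; norm_num, ?_, by decide +kernel,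
    by decide +kernel⟩
  simp only [IsRoot, eval_add, eval_pow, eval_X, eval_one] at hr
  simp only [ev, Finset.sum_range_succ, Finset.sum_range_zero]
  norm_num [Nat.testBit, Nat.shiftRight_eq_div_pow]
  linear_combination hr

open Polynomial in
/-- The field of thirty-two elements. -/
theorem exists_model_thirtyTwo [Fintype F] [CharP F 2] (hF : Fintype.card F = 32) :
    ∃ r : F, Model F 5 37 r := by
  have two0 : (2 : Polynomial F) = 0 := CharTwo.two_eq_zero
  set Q : Polynomial F := X ^ 26 + X ^ 23 + X ^ 21 + X ^ 20 + X ^ 17 + X ^ 16 + X ^ 15 + X ^ 14 + X ^ 13 + X ^ 9 +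
    X ^ 8 + X ^ 6 + X ^ 5 + X ^ 4 + X ^ 2 + 1 with hQ
  obtain ⟨r, hr⟩ := exists_root (p := X ^ 5 + X ^ 2 + 1) (Q := Q) (N := 31) hF
    (by rw [hQ]; linear_combination (X ^ 28 + X ^ 26 + X ^ 25 + X ^ 23 + X ^ 22 + X ^ 21 + X ^ 20 + X ^ 19 + X ^ 18 + X ^ 17 + X ^ 16 + X ^ 15 + X ^ 14 + X ^ 13 + X ^ 11 + X ^ 10 +
        X ^ 9 + X ^ 8 + X ^ 7 + X ^ 6 + X ^ 5 + X ^ 4 + X ^ 2 + 1 : Polynomial F) * two0)
    (by rw [hQ]; compute_degree!)
  refine ⟨r, by norm_num, by norm_num, by rw [Nat.card_eq_fintype_card, hF]; norm_num, ?_, by decide +kernel,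
    by decide +kernel⟩
  simp only [IsRoot, eval_add, eval_pow, eval_X, eval_one] at hr
  simp only [ev, Finset.sum_range_succ, Finset.sum_range_zero]
  norm_num [Nat.testBit, Nat.shiftRight_eq_div_pow]
  linear_combination hr

end CfsgLib.CIT.SuzukiRecog
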