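import Cfsg.Agent.Lib.CIT.SuzukiRecog.Equation
import Cfsg.Agent.Lib.CIT.SuzukiRecog.Model

/-!
# The functional equation over the fields of 8 and 32 elements

Only the automorphisms whose square is `x ↦ x²` or `x ↦ √x` admit a solution, each with one `β`.
-/

set_option autoImplicit false
set_option linter.all false

namespace CfsgLib.CIT.SuzukiRecog

/-- The norm preimage of a code. -/
def croot (n P i v : ℕ) : ℕ := ((List.range (2 ^ n)).find? fun a => cnrm n P i a == v).getD 0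

/-- The first coordinate forced at `v`. -/
def cx (n P i v : ℕ) : ℕ :=
  cm n P (1 ^^^ croot n P i (v ^^^ 1)) (cinv n P (1 ^^^ cm n P (croot n P i (v ^^^ 1)) (croot n P i v)))

/-- The second coordinate forced at `v`. -/
def cy (n P i β v x : ℕ) : ℕ :=
  cm n P (cm n P (v ^^^ 1) ((β ^^^ 1) ^^^ cm n P (croot n P i v) x) ^^^ (β ^^^ x)) (cinv n P (cm n P v v ^^^ (v ^^^ 1)))

/-- The consistency condition at `w`. -/
def cpartner (n P i x w : ℕ) : Bool :=
  w != 0 && (w != 1 &&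
    cm n P x (1 ^^^ cm n P (croot n P i (w ^^^ 1)) (croot n P i w)) == 1 ^^^ croot n P i (w ^^^ 1))

/-- The condition at `v`. -/
def cgood (n P i β v : ℕ) : Bool :=
  cpartner n P i (cx n P i v)
    (β ^^^ cm n P (cy n P i β v (cx n P i v)) (cinv n P (cnrm n P i (cx n P i v))))

/-- The condition at all `v`. -/
def ccheck (n P i β : ℕ) : Bool := (List.range (2 ^ n - 2)).all fun k => cgood n P i β (k + 2)

/-- The possible parameters. -/
def callow (n i β : ℕ) : Bool := (2 * i + 1 == n && β == 1) || (2 * i == n + 1 && β == 0)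

/-- Only the possible parameters pass. -/
def cscan (n P : ℕ) : Bool :=
  (List.range n).all fun i => i == 0 || (List.range (2 ^ n)).all fun β => callow n i β || !ccheck n P i β

theorem cscan_eight : cscan 3 11 = true := by decide +kernel

theorem cscan_thirtyTwo : cscan 5 37 = true := by decide +kernel

variable {F : Type*} [Field F] [Finite F] [CharP F 2] {n P : ℕ} {r : F} {φ : F ≃+* F} {i : ℕ}

/-- The arithmetic of `n`: the relevant powers are bijective. -/
structure Exps (n : ℕ) : Prop where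
  cop : ∀ i < n, (1 + 2 ^ i).Coprime (2 ^ n - 1)

theorem exps_eight : Exps 3 := ⟨by decide⟩

theorem exps_thirtyTwo : Exps 5 := ⟨by decide⟩

theorem nrm_eq_pow (hφ : ∀ x, φ x = x ^ 2 ^ i) (x : F) : nrm φ x = x ^ (1 + 2 ^ i) := by
  rw [nrm, hφ, pow_add, pow_one]

theorem pow_injective (he : Exps n) (hF : Nat.card F = 2 ^ n) (hi : i < n) :
    Function.Injective fun x : F => x ^ (1 + 2 ^ i) := by
  haveI := Fintype.ofFinite F
  intro x y hxy
  simp only at hxy
  have hne : 1 + 2 ^ i ≠ 0 := Nat.succ_ne_zero _ |> (by rw [Nat.add_comm]; exact ·)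
  by_cases hy : y = 0
  · rw [hy, zero_pow hne] at hxy
    rw [hy, eq_zero_of_pow_eq_zero hxy]
  have h1 : (x / y) ^ (1 + 2 ^ i) = 1 := by rw [div_pow, hxy, div_self (pow_ne_zero _ hy)]
  have h0 : x / y ≠ 0 := fun e => by rw [e, zero_pow hne] at h1; exact zero_ne_one h1
  have h2 : (x / y) ^ (2 ^ n - 1) = 1 := by
    rw [← hF, Nat.card_eq_fintype_card]
    exact FiniteField.pow_card_sub_one_eq_one _ h0
  have h3 : (x / y) ^ (1 + 2 ^ i).gcd (2 ^ n - 1) = 1 := pow_gcd_eq_one.2 ⟨h1, h2⟩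
  rw [he.cop i hi, pow_one] at h3
  exact (div_eq_one_iff_eq hy).1 h3

theorem nrm_surjective (he : Exps n) (hF : Nat.card F = 2 ^ n) (hi : i < n) (hφ : ∀ x, φ x = x ^ 2 ^ i) :
    Function.Surjective (nrm φ) := Finite.injective_iff_surjective.1 fun x y h =>
  pow_injective he hF hi (by simpa only [nrm_eq_pow hφ] using h)

theorem no_cube_root (he : Exps n) (hn : 2 ≤ n) (hF : Nat.card F = 2 ^ n) (v : F) : v * v + v + 1 ≠ 0 := by
  intro e
  have h3 : v ^ (1 + 2 ^ 1) = (1 : F) ^ (1 + 2 ^ 1) := by linear_combination (v - 1) * e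
  have h1 : v = 1 := pow_injective he hF (i := 1) (by omega) h3
  rw [h1, mul_one, add_self', zero_add] at e
  exact one_ne_zero e

section

variable (h : Model F n P r) (hinj : Function.Injective fun x : F => x ^ (1 + 2 ^ i))
include h hinj

theorem croot_spec {v : ℕ} {a : F} (hv : v < 2 ^ n) (ha : a ^ (1 + 2 ^ i) = ev r v) :
    croot n P i v < 2 ^ n ∧ ev r (croot n P i v) = a := by
  obtain ⟨c, hc, rfl⟩ := h.ev_surj a
  have hcv : cnrm n P i c = v := h.ev_inj (h.cnrm_spec i hc).1 hv (by rw [(h.cnrm_spec i hc).2, ha])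
  unfold croot
  rcases e : (List.range (2 ^ n)).find? (fun a => cnrm n P i a == v) with _ | d
  · have := List.find?_eq_none.1 e c (List.mem_range.2 hc)
    simp [hcv] at this
  · have hd : d < 2 ^ n := List.mem_range.1 (List.mem_of_find?_eq_some e)
    have hdv : cnrm n P i d = v := by simpa using List.find?_some e
    refine ⟨hd, ?_⟩
    exact hinj (show ev r ((some d).getD 0) ^ (1 + 2 ^ i) = ev r c ^ (1 + 2 ^ i) by
      rw [Option.getD_some, ← (h.cnrm_spec i hd).2, hdv, ha])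

variable {β : ℕ} {W : Option (F × F) → Option (F × F)}

theorem ccheck_of_sol (hi : i < n) (he : Exps n) (hφ : ∀ x, φ x = x ^ 2 ^ i) (hβ : β < 2 ^ n)
    (hW : Sol φ (ev r β) W) : ccheck n P i β = true := by
  have hN := nrm_surjective he h.card hi hφ
  rw [ccheck, List.all_eq_true]
  intro k hk
  have hv : k + 2 < 2 ^ n := by have := List.mem_range.1 hk; omega
  set v := k + 2 with hv'
  have hxor : ∀ {a b : ℕ}, a < 2 ^ n → b < 2 ^ n → a ^^^ b < 2 ^ n := fun ha hb => Nat.xor_lt_two_pow ha hb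
  have h1n := h.one_lt
  have hν0 : ev r v ≠ 0 := fun e => by
    have := h.ev_inj hv (by omega : 0 < 2 ^ n) (by rw [e, ev_zero]); omega
  have hν1 : ev r v ≠ 1 := fun e => by
    have := h.ev_inj hv h1n (by rw [e, ev_one]); omega
  obtain ⟨a, ha⟩ := hN (ev r v)
  obtain ⟨b, hb⟩ := hN (ev r v + 1)
  obtain ⟨⟨x, y⟩, hp⟩ := hW.exists_value (ev r v)
  obtain ⟨e1, e2, hx0⟩ := hW.eqns hν0 hν1 ha hb hp
  have hden := hW.denom_ne hν0 hν1 ha hb hp
  obtain ⟨ra, rb⟩ := And.intro (croot_spec h hinj hv (a := a) (by rw [← nrm_eq_pow hφ, ha]))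
    (croot_spec h hinj (hxor hv h1n) (a := b) (by rw [← nrm_eq_pow hφ, hb, ev_xor, ev_one]))
  have hd := hxor h1n (h.cm_lt rb.1 ra.1)
  have hX : cx n P i v < 2 ^ n := h.cm_lt (hxor h1n rb.1) (h.cinv_lt hd)
  have hXe : ev r (cx n P i v) = x := by
    rw [cx, h.ev_cm (hxor h1n rb.1) (h.cinv_lt hd), h.ev_cinv hd, ev_xor, ev_xor, h.ev_cm rb.1 ra.1, ra.2, rb.2,
      ev_one, ← div_eq_mul_inv, div_eq_iff hden, e1]
  have hb1 := hxor hβ h1n
  have hv1 := hxor hv h1n
  have hrx := h.cm_lt ra.1 hX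
  have hA := hxor (h.cm_lt hv1 (hxor hb1 hrx)) (hxor hβ hX)
  have hB := hxor (h.cm_lt hv hv) hv1
  have hY : cy n P i β v (cx n P i v) < 2 ^ n := h.cm_lt hA (h.cinv_lt hB)
  have hYe : ev r (cy n P i β v (cx n P i v)) = y := by
    rw [cy, h.ev_cm hA (h.cinv_lt hB), h.ev_cinv hB, ev_xor, ev_xor, ev_xor, h.ev_cm hv1 (hxor hb1 hrx),
      h.ev_cm hv hv, ev_xor, ev_xor, ev_xor, h.ev_cm ra.1 hX, ra.2, hXe, ev_one, ← div_eq_mul_inv,
      div_eq_iff (by rw [← add_assoc]; exact no_cube_root he h.two_le h.card _)]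
    linear_combination -e2
  have hN' := h.cnrm_spec i hX
  have hq := h.cm_lt hY (h.cinv_lt hN'.1)
  have hw : β ^^^ cm n P (cy n P i β v (cx n P i v)) (cinv n P (cnrm n P i (cx n P i v))) < 2 ^ n := hxor hβ hq
  obtain ⟨w, hwdef⟩ : ∃ w, w = β ^^^ cm n P (cy n P i β v (cx n P i v)) (cinv n P (cnrm n P i (cx n P i v))) :=
    ⟨_, rfl⟩
  rw [← hwdef] at hw
  have hwe : ev r w = ev r β + y / nrm φ x := by
    rw [hwdef, ev_xor, h.ev_cm hY (h.cinv_lt hN'.1), hYe, h.ev_cinv hN'.1, hN'.2, hXe, nrm_eq_pow hφ, div_eq_mul_inv]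
  obtain ⟨hw0, hw1, hp'⟩ := hW.partner hν0 hν1 hx0 hp
  rw [← hwe] at hw0 hw1 hp'
  obtain ⟨a', ha'⟩ := hN (ev r w)
  obtain ⟨b', hb'⟩ := hN (ev r w + 1)
  obtain ⟨f1, -, -⟩ := hW.eqns hw0 hw1 ha' hb' hp'
  obtain ⟨ra', rb'⟩ := And.intro (croot_spec h hinj hw (a := a') (by rw [← nrm_eq_pow hφ, ha']))
    (croot_spec h hinj (hxor hw h1n) (a := b') (by rw [← nrm_eq_pow hφ, hb', ev_xor, ev_one]))
  rw [cgood, ← hwdef, cpartner]
  simp only [Bool.and_eq_true, bne_iff_ne, ne_eq, beq_iff_eq]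
  refine ⟨fun e => hw0 (by rw [e, ev_zero]), fun e => hw1 (by rw [e, ev_one]), ?_⟩
  have hd' := hxor h1n (h.cm_lt rb'.1 ra'.1)
  refine h.ev_inj (h.cm_lt hX hd') (hxor h1n rb'.1) ?_
  rw [h.ev_cm hX hd', hXe, ev_xor, ev_xor, h.ev_cm rb'.1 ra'.1, ra'.2, rb'.2, ev_one, f1]

end

/-- The possible parameters. -/
theorem allowed (h : Model F n P r) (he : Exps n) (hs : cscan n P = true) (hi0 : i ≠ 0) (hi : i < n)
    (hφ : ∀ x, φ x = x ^ 2 ^ i) {β : F} {W : Option (F × F) → Option (F × F)} (hW : Sol φ β W) :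
    (2 * i + 1 = n ∧ β = 1) ∨ (2 * i = n + 1 ∧ β = 0) := by
  obtain ⟨b, hb, rfl⟩ := h.ev_surj β
  have h1 := ccheck_of_sol h (pow_injective he h.card hi) hi he hφ hb hW
  have h2 := List.all_eq_true.1 hs i (List.mem_range.2 hi)
  simp only [Bool.or_eq_true, beq_iff_eq, hi0, false_or] at h2
  have h3 := List.all_eq_true.1 h2 b (List.mem_range.2 hb)
  rw [h1, Bool.not_true, Bool.or_false, callow] at h3
  simp only [Bool.or_eq_true, Bool.and_eq_true, beq_iff_eq] at h3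
  rcases h3 with ⟨e1, e2⟩ | ⟨e1, e2⟩
  · exact Or.inl ⟨e1, by rw [e2, ev_one]⟩
  · exact Or.inr ⟨e1, by rw [e2, ev_zero]⟩

/-- Fields of eight and thirty-two elements: the possible parameters. -/
theorem allowed_small {n : ℕ} (hn : n = 3 ∨ n = 5) (hF : Nat.card F = 2 ^ n) (hi0 : i ≠ 0) (hi : i < n)
    (hφ : ∀ x, φ x = x ^ 2 ^ i) {β : F} {W : Option (F × F) → Option (F × F)} (hW : Sol φ β W) :
    (2 * i + 1 = n ∧ β = 1) ∨ (2 * i = n + 1 ∧ β = 0) := by
  haveI := Fintype.ofFinite F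
  rw [Nat.card_eq_fintype_card] at hF
  rcases hn with rfl | rfl
  · obtain ⟨r, hr⟩ := exists_model_eight (F := F) hF
    exact allowed hr exps_eight cscan_eight hi0 hi hφ hW
  · obtain ⟨r, hr⟩ := exists_model_thirtyTwo (F := F) hF
    exact allowed hr exps_thirtyTwo cscan_thirtyTwo hi0 hi hφ hW

end CfsgLib.CIT.SuzukiRecog
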