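import Mathlib

/-!
# Elimination in characteristic two

`R`, `t` stand for `φ r`, `φ s`.
-/

set_option autoImplicit false
set_option linter.all false

namespace CfsgLib.CIT.SuzukiRecog

variable {F : Type*} [Field F] [CharP F 2]

/-- The polynomial whose vanishing forces `β² + β = 0`. -/
def zexpr {A : Type*} [CommRing A] (β r R : A) : A :=
  (1 + (r + R) + r * R) * (r * R * (1 + (r + R) + r * R) ^ 2 + (r + R) * ((1 + β) * (R * (1 + r)) *
      (1 + r * R * r) + β * (r * (1 + R)) * (1 + r * R * R))) +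
    (β ^ 2 + β) * (r + R) ^ 2 * (1 + r * R * (r + R) + (r * R) ^ 3 + (r + R) ^ 2 + r * R * (r + R) ^ 2)

variable {β r R s t : F}

theorem linear_one (hst : s * t = r * R + 1)
    (e1 : (r * R) ^ 2 * ((1 + r + s) * (1 + R + t)) = (1 + s) * (1 + t) * (R * (1 + r) + β * (r + R))) :
    s * ((r * R) ^ 2 * (1 + R) + (R * (1 + r) + β * (r + R))) +
        t * ((r * R) ^ 2 * (1 + r) + (R * (1 + r) + β * (r + R))) =
      r * R * (R * (1 + r) + β * (r + R)) + (r * R) ^ 2 * (r + R) := by
  linear_combination (norm := grind) e1 + ((r * R) ^ 2 + (R * (1 + r) + β * (r + R))) * hst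

theorem linear_two (hst : s * t = r * R + 1)
    (e2 : (1 + r + s) * (1 + R + t) = r * R * ((r + s) * (R + t)) * (1 + r + β * (r + R))) :
    s * (1 + R + r * R * R * (1 + r + β * (r + R))) + t * (1 + r + r * R * r * (1 + r + β * (r + R))) =
      r + R + r * R * (1 + r + β * (r + R)) := by
  linear_combination (norm := grind) e2 + (1 + r * R * (1 + r + β * (r + R))) * hst

/-- The common denominator. -/
def gexpr {A : Type*} [CommRing A] (β r R : A) : A :=
  R * (1 + r) + β * (r + R) + r * R * (1 + r + β * (r + R)) * (R * (1 + r) + β * (r + R) + (r * R) ^ 2)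

/-- The numerator for `s`. -/
def numExpr {A : Type*} [CommRing A] (β r R : A) : A :=
  (1 + β) * (R * (1 + r)) * (1 + r * R * r) ^ 2 + β * (r * (1 + R)) * (1 + r * R) ^ 3 +
    (β ^ 2 + β) * (r + R) * (r * R) * (1 + r * R * r)

/-- The numerator for `t`. -/
def numExpr' {A : Type*} [CommRing A] (β r R : A) : A :=
  β * (r * (1 + R)) * (1 + r * R * R) ^ 2 + (1 + β) * (R * (1 + r)) * (1 + r * R) ^ 3 +
    (β ^ 2 + β) * (r + R) * (r * R) * (1 + r * R * R)

theorem solve (hst : s * t = r * R + 1)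
    (e1 : (r * R) ^ 2 * ((1 + r + s) * (1 + R + t)) = (1 + s) * (1 + t) * (R * (1 + r) + β * (r + R)))
    (e2 : (1 + r + s) * (1 + R + t) = r * R * ((r + s) * (R + t)) * (1 + r + β * (r + R))) :
    (r + R) * (s * gexpr β r R) = (r + R) * numExpr β r R ∧
      (r + R) * (t * gexpr β r R) = (r + R) * numExpr' β r R := by
  have l1 := linear_one hst e1
  have l2 := linear_two hst e2
  unfold gexpr numExpr numExpr'
  constructor
  · linear_combination (norm := grind) (1 + r + r * R * r * (1 + r + β * (r + R))) * l1 +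
      ((r * R) ^ 2 * (1 + r) + (R * (1 + r) + β * (r + R))) * l2
  · linear_combination (norm := grind) (1 + R + r * R * R * (1 + r + β * (r + R))) * l1 +
      ((r * R) ^ 2 * (1 + R) + (R * (1 + r) + β * (r + R))) * l2

theorem key_identity (β r R : F) :
    numExpr β r R * numExpr' β r R + (1 + r * R) * gexpr β r R ^ 2 =
      (β ^ 2 + β) * (r * R) ^ 2 * zexpr β r R := by
  unfold gexpr numExpr numExpr' zexpr
  grind

/-- The condition on `β`. -/
theorem zexpr_eq_zero (hst : s * t = r * R + 1)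
    (e1 : (r * R) ^ 2 * ((1 + r + s) * (1 + R + t)) = (1 + s) * (1 + t) * (R * (1 + r) + β * (r + R)))
    (e2 : (1 + r + s) * (1 + R + t) = r * R * ((r + s) * (R + t)) * (1 + r + β * (r + R)))
    (hr : r * R ≠ 0) (hγ : β ^ 2 + β ≠ 0) : (r + R) ^ 2 * zexpr β r R = 0 := by
  obtain ⟨hs, ht⟩ := solve hst e1 e2
  have h1 : (β ^ 2 + β) * (r * R) ^ 2 * ((r + R) ^ 2 * zexpr β r R) = 0 := by
    rw [show (β ^ 2 + β) * (r * R) ^ 2 * ((r + R) ^ 2 * zexpr β r R) =
      (r + R) ^ 2 * ((β ^ 2 + β) * (r * R) ^ 2 * zexpr β r R) by ring, ← key_identity]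
    linear_combination (norm := grind) ((r + R) * (t * gexpr β r R)) * hs + ((r + R) * numExpr β r R) * ht +
      ((r + R) ^ 2 * gexpr β r R ^ 2) * hst
  exact (mul_eq_zero.1 h1).resolve_left (mul_ne_zero hγ (pow_ne_zero 2 hr))

/-- The value of `s` for `β = 0`. -/
theorem value_of_zero (hst : s * t = r * R + 1)
    (e1 : (r * R) ^ 2 * ((1 + r + s) * (1 + R + t)) = (1 + s) * (1 + t) * (R * (1 + r)))
    (e2 : (1 + r + s) * (1 + R + t) = r * R * ((r + s) * (R + t)) * (1 + r))
    (hu : r + R ≠ 0) (hR : R ≠ 0) (h1 : 1 + r ≠ 0) (ha : 1 + r * R * r ≠ 0) :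
    s * (1 + r * R) = 1 + r * R * r := by
  obtain ⟨hs, -⟩ := solve (β := 0) hst (by rw [e1]; ring) (by rw [e2]; ring)
  have h2 := mul_left_cancel₀ hu hs
  unfold gexpr numExpr at h2
  refine mul_left_cancel₀ (mul_ne_zero (mul_ne_zero hR h1) ha) ?_
  linear_combination (norm := grind) h2

end CfsgLib.CIT.SuzukiRecog
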