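import Mathlib

/-!
# The functional equation of the Suzuki groups

`F` has characteristic two, `φ` is an automorphism with `N l = l φ(l)` bijective.  The points other than `∞` carry the
group law `pm` of the 2-group of type A, scaled by `sc`.  `Sol φ β W`: `W` is an involutory permutation of the points,
inverse-equivariant, exchanging `0` and `∞`, with `W (0,1) = (1,β)` and the identity `W z₀ W = c W c⁻¹`.
Such `W` is determined by `φ` and `β`.
-/

set_option autoImplicit false
set_option linter.all false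

namespace CfsgLib.CIT.SuzukiRecog

variable {F : Type*} [Field F] [CharP F 2]

/-- The group law. -/
def pm (φ : F ≃+* F) (p r : F × F) : F × F := (p.1 + r.1, p.2 + r.2 + φ p.1 * r.1)

/-- The norm map. -/
def nrm (φ : F ≃+* F) (l : F) : F := l * φ l

/-- Scaling. -/
def sc (φ : F ≃+* F) (l : F) (p : F × F) : F × F := (l * p.1, nrm φ l * p.2)

theorem add_self' (x : F) : x + x = 0 := CharTwo.add_self_eq_zero x

theorem nrm_mul (φ : F ≃+* F) (a b : F) : nrm φ (a * b) = nrm φ a * nrm φ b := by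
  simp only [nrm, map_mul]; ring

theorem nrm_one (φ : F ≃+* F) : nrm φ 1 = 1 := by simp [nrm]

theorem nrm_zero (φ : F ≃+* F) : nrm φ 0 = 0 := by simp [nrm]

theorem nrm_ne_zero (φ : F ≃+* F) {a : F} (h : a ≠ 0) : nrm φ a ≠ 0 :=
  mul_ne_zero h ((map_ne_zero φ).2 h)

theorem sc_sc (φ : F ≃+* F) (a b : F) (p : F × F) : sc φ a (sc φ b p) = sc φ (a * b) p := by
  simp only [sc, nrm_mul, mul_assoc]

theorem sc_one (φ : F ≃+* F) (p : F × F) : sc φ 1 p = p := by simp [sc, nrm]

theorem pm_assoc (φ : F ≃+* F) (p r s : F × F) : pm φ (pm φ p r) s = pm φ p (pm φ r s) := by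
  simp only [pm, map_add, Prod.mk.injEq]
  constructor <;> ring

theorem sc_pm (φ : F ≃+* F) (l : F) (p r : F × F) : sc φ l (pm φ p r) = pm φ (sc φ l p) (sc φ l r) := by
  simp only [sc, pm, nrm, map_mul, Prod.mk.injEq]
  constructor <;> ring

/-- The conditions on the permutation. -/
structure Sol (φ : F ≃+* F) (β : F) (W : Option (F × F) → Option (F × F)) : Prop where
  top : W none = some (0, 0)
  invol : ∀ o, W (W o) = o
  equiv : ∀ l : F, l ≠ 0 → ∀ o, W (Option.map (sc φ l) o) = Option.map (sc φ l⁻¹) (W o)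
  base : W (some (0, 1)) = some (1, β)
  rel : ∀ o, W (Option.map (pm φ (0, 1)) (W o)) =
    Option.map (pm φ (1, β)) (W (Option.map (pm φ (1, β + 1)) o))

variable {φ : F ≃+* F} {β : F} {W : Option (F × F) → Option (F × F)}

theorem Sol.bot (h : Sol φ β W) : W (some (0, 0)) = none := by rw [← h.top, h.invol]

theorem Sol.invo (h : Sol φ β W) {l : F} (hl : l ≠ 0) :
    W (some (0, nrm φ l)) = some (sc φ l⁻¹ (1, β)) := by
  have h1 := h.equiv l hl (some (0, 1))
  rw [h.base, Option.map_some, Option.map_some] at h1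
  rwa [show sc φ l (0, 1) = (0, nrm φ l) by simp [sc]] at h1

theorem Sol.exists_value (h : Sol φ β W) (ν : F) : ∃ p, W (some (1, β + ν)) = some p := by
  rcases e : W (some (1, β + ν)) with _ | p
  · have h1 := h.invol (some (1, β + ν))
    rw [e, h.top] at h1
    simp at h1
  · exact ⟨p, rfl⟩

/-- The basic equation. -/
theorem Sol.step (h : Sol φ β W) {l : F} (hl : l ≠ 0) :
    Option.map (sc φ l) (W (some (1, β + nrm φ l))) =
      Option.map (pm φ (1, β)) (W (some (1, β + (nrm φ l + 1)))) := by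
  have h1 := h.rel (some (0, nrm φ l))
  rw [h.invo hl, Option.map_some, Option.map_some] at h1
  have e1 : pm φ (0, 1) (sc φ l⁻¹ (1, β)) = sc φ l⁻¹ (1, β + nrm φ l) := by
    have : nrm φ l⁻¹ * nrm φ l = 1 := by rw [← nrm_mul, inv_mul_cancel₀ hl, nrm_one]
    simp only [pm, sc, map_zero, Prod.mk.injEq]
    exact ⟨by ring, by linear_combination -this⟩
  have e2 : pm φ (1, β + 1) (0, nrm φ l) = (1, β + (nrm φ l + 1)) := by
    simp only [pm, map_one, Prod.mk.injEq]
    exact ⟨by ring, by ring⟩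
  rw [e1, e2] at h1
  have h2 := h.equiv l⁻¹ (inv_ne_zero hl) (some (1, β + nrm φ l))
  rw [Option.map_some, inv_inv] at h2
  rw [← h2, h1]

theorem Sol.value_zero (h : Sol φ β W) : W (some (1, β + 0)) = some (0, 1) := by
  rw [add_zero, ← h.base, h.invol]

theorem Sol.value_one (h : Sol φ β W) : W (some (1, β + 1)) = some (1, β + 1) := by
  have h1 := h.step (one_ne_zero (α := F))
  rw [nrm_one, add_self', h.value_zero] at h1
  obtain ⟨p, hp⟩ := h.exists_value 1
  rw [hp, Option.map_some, Option.map_some, sc_one] at h1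
  rw [hp, h1]
  simp [pm]

/-- The two linear equations for a value. -/
theorem Sol.eqns (h : Sol φ β W) {ν r s x y : F} (hν0 : ν ≠ 0) (hν1 : ν ≠ 1) (hr : nrm φ r = ν)
    (hs : nrm φ s = ν + 1) (hW : W (some (1, β + ν)) = some (x, y)) :
    x * (1 + s * r) = 1 + s ∧ y * (ν * ν + ν + 1) = (ν + 1) * (β + 1 + r * x) + β + x ∧ x ≠ 0 := by
  have hr0 : r ≠ 0 := fun e => hν0 (by rw [← hr, e, nrm_zero])
  have hs0 : s ≠ 0 := fun e => hν1 (by
    rw [e, nrm_zero] at hs
    exact CharTwo.add_eq_zero.1 hs.symm)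
  have h1 := h.step hr0
  have h2 := h.step hs0
  rw [hr, hW] at h1
  rw [hs, add_assoc ν 1 1, add_self', add_zero, hW] at h2
  obtain ⟨⟨x1, y1⟩, hp⟩ := h.exists_value (ν + 1)
  rw [hp] at h1 h2
  simp only [Option.map_some, Option.some.injEq, sc, pm, Prod.mk.injEq, hr, hs, map_one, one_mul] at h1 h2
  obtain ⟨a1, b1⟩ := h1
  obtain ⟨a2, b2⟩ := h2
  have two0 : (2 : F) = 0 := CharTwo.two_eq_zero
  have hx : x * (1 + s * r) = 1 + s := by
    linear_combination a2 + s * a1 + x * two0
  refine ⟨hx, ?_, fun e => ?_⟩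
  · linear_combination (ν + 1) * b1 + b2 + (ν + 1) * a1 + (y + ν * x1 - ν * x * r + x1 - x * r) * two0
  · rw [e, zero_mul] at hx
    have hs1 : s = 1 := (CharTwo.add_eq_zero.1 hx.symm).symm
    rw [hs1, nrm_one] at hs
    exact hν0 (by linear_combination -hs)

theorem Sol.denom_ne (h : Sol φ β W) {ν r s x y : F} (hν0 : ν ≠ 0) (hν1 : ν ≠ 1) (hr : nrm φ r = ν)
    (hs : nrm φ s = ν + 1) (hW : W (some (1, β + ν)) = some (x, y)) : 1 + s * r ≠ 0 := by
  intro e
  have h1 := (h.eqns hν0 hν1 hr hs hW).1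
  rw [e, mul_zero] at h1
  rw [(CharTwo.add_eq_zero.1 h1.symm).symm, nrm_one] at hs
  exact hν0 (by linear_combination -hs)

/-- The value at `k` and the value at its image share the first coordinate. -/
theorem Sol.partner (h : Sol φ β W) {ν x y : F} (hν0 : ν ≠ 0) (hν1 : ν ≠ 1) (hx : x ≠ 0)
    (hW : W (some (1, β + ν)) = some (x, y)) :
    β + y / nrm φ x ≠ 0 ∧ β + y / nrm φ x ≠ 1 ∧
      W (some (1, β + (β + y / nrm φ x))) = some (x, nrm φ x * (β + ν)) := by
  set k := y / nrm φ x with hk
  have hN := nrm_ne_zero φ hx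
  have e1 : (x, y) = sc φ x (1, k) := by
    simp only [sc, mul_one, Prod.mk.injEq, hk, true_and]
    field_simp
  have h1 := h.equiv x hx (some (1, k))
  rw [Option.map_some, ← e1, ← hW, h.invol] at h1
  obtain ⟨p, hp⟩ : ∃ p, W (some (1, k)) = some p := by
    rcases e : W (some (1, k)) with _ | p
    · rw [e] at h1; simp at h1
    · exact ⟨p, rfl⟩
  rw [hp, Option.map_some, Option.some.injEq] at h1
  have hp' : p = sc φ x (1, β + ν) := by rw [h1, sc_sc, mul_inv_cancel₀ hx, sc_one]
  have hval : W (some (1, β + (β + k))) = some (x, nrm φ x * (β + ν)) := by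
    rw [← add_assoc, add_self', zero_add, hp, hp']
    simp [sc]
  refine ⟨fun e => ?_, fun e => ?_, hval⟩
  · rw [e, h.value_zero, Option.some.injEq, Prod.mk.injEq] at hval
    exact hx hval.1.symm
  · rw [e, h.value_one, Option.some.injEq, Prod.mk.injEq, ← hval.1, nrm_one, one_mul, add_right_inj] at hval
    exact hν1 hval.2.symm

/-- Uniqueness. -/
theorem Sol.unique (h : Sol φ β W) {W' : Option (F × F) → Option (F × F)} (h' : Sol φ β W')
    (hN : Function.Surjective (nrm φ)) (h3 : ∀ v : F, v * v + v + 1 ≠ 0) : W = W' := by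
  have hP : ∀ ν, W (some (1, β + ν)) = W' (some (1, β + ν)) := by
    intro ν
    by_cases hν0 : ν = 0
    · subst hν0; rw [h.value_zero, h'.value_zero]
    by_cases hν1 : ν = 1
    · subst hν1; rw [h.value_one, h'.value_one]
    obtain ⟨r, hr⟩ := hN ν
    obtain ⟨s, hs⟩ := hN (ν + 1)
    obtain ⟨⟨x, y⟩, hp⟩ := h.exists_value ν
    obtain ⟨⟨x', y'⟩, hp'⟩ := h'.exists_value ν
    obtain ⟨e1, e2, -⟩ := h.eqns hν0 hν1 hr hs hp
    obtain ⟨e1', e2', -⟩ := h'.eqns hν0 hν1 hr hs hp'
    have hx : x = x' := mul_right_cancel₀ (h.denom_ne hν0 hν1 hr hs hp) (e1.trans e1'.symm)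
    subst hx
    rw [hp, hp', mul_right_cancel₀ (h3 ν) (e2.trans e2'.symm)]
  funext o
  rcases o with _ | ⟨a, b⟩
  · rw [h.top, h'.top]
  by_cases ha : a = 0
  · subst ha
    by_cases hb : b = 0
    · subst hb; rw [h.bot, h'.bot]
    · obtain ⟨l, rfl⟩ := hN b
      have hl : l ≠ 0 := fun e => hb (by rw [e, nrm_zero])
      rw [h.invo hl, h'.invo hl]
  · have e : (a, b) = sc φ a (1, β + (β + b / nrm φ a)) := by
      have := nrm_ne_zero φ ha
      rw [← add_assoc, add_self', zero_add]
      simp only [sc, mul_one, Prod.mk.injEq, true_and]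
      field_simp
    have h1 := h.equiv a ha (some (1, β + (β + b / nrm φ a)))
    have h1' := h'.equiv a ha (some (1, β + (β + b / nrm φ a)))
    rw [Option.map_some, ← e] at h1 h1'
    rw [h1, h1', hP]

/-- The coordinate change inverting `φ`. -/
def flipPt (φ : F ≃+* F) : F × F ≃ F × F where
  toFun p := (φ p.1, p.2 + p.1 * φ p.1)
  invFun p := (φ.symm p.1, p.2 + φ.symm p.1 * p.1)
  left_inv p := by
    simp only [RingEquiv.symm_apply_apply, add_assoc, add_self', add_zero]
  right_inv p := by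
    simp only [RingEquiv.apply_symm_apply, add_assoc, add_self', add_zero]

theorem flipPt_pm (φ : F ≃+* F) (p r : F × F) :
    flipPt φ (pm φ p r) = pm φ.symm (flipPt φ p) (flipPt φ r) := by
  have two0 : (2 : F) = 0 := CharTwo.two_eq_zero
  simp only [flipPt, pm, Equiv.coe_fn_mk, map_add, RingEquiv.symm_apply_apply, Prod.mk.injEq, true_and]
  linear_combination (φ p.1 * r.1) * two0

theorem flipPt_sc (φ : F ≃+* F) (l : F) (p : F × F) : flipPt φ (sc φ l p) = sc φ.symm (φ l) (flipPt φ p) := by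
  simp only [flipPt, sc, nrm, Equiv.coe_fn_mk, map_mul, RingEquiv.symm_apply_apply, Prod.mk.injEq, true_and]
  ring

/-- The permutation in the flipped coordinates. -/
theorem Sol.flip (h : Sol φ β W) : Sol φ.symm (β + 1) fun o =>
    Option.map (flipPt φ) (W (Option.map (flipPt φ).symm o)) := by
  have hmm : ∀ o, Option.map (flipPt φ).symm (Option.map (flipPt φ) o) = o := fun o => by
    rcases o with _ | p <;> simp
  have hmm' : ∀ o, Option.map (flipPt φ) (Option.map (flipPt φ).symm o) = o := fun o => by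
    rcases o with _ | p <;> simp
  have hpm : ∀ p o, Option.map (flipPt φ).symm (Option.map (pm φ.symm (flipPt φ p)) o) =
      Option.map (pm φ p) (Option.map (flipPt φ).symm o) := by
    intro p o
    rcases o with _ | r
    · rfl
    · simp only [Option.map_some, Option.some.injEq]
      rw [Equiv.symm_apply_eq, flipPt_pm, Equiv.apply_symm_apply]
  have hf : ∀ a b : F, flipPt φ (a, b) = (φ a, b + a * φ a) := fun a b => rfl
  refine ⟨?_, fun o => ?_, fun l hl o => ?_, ?_, fun o => ?_⟩
  · simp [h.top, hf]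
  · rw [hmm, h.invol, hmm']
  · obtain ⟨k, rfl⟩ := φ.surjective l
    have hk : k ≠ 0 := fun e => hl (by rw [e, map_zero])
    have h1 : Option.map (flipPt φ).symm (Option.map (sc φ.symm (φ k)) o) =
        Option.map (sc φ k) (Option.map (flipPt φ).symm o) := by
      rcases o with _ | r
      · rfl
      · simp only [Option.map_some, Option.some.injEq]
        rw [Equiv.symm_apply_eq, flipPt_sc, Equiv.apply_symm_apply]
    rw [h1, h.equiv k hk, ← map_inv₀]
    rcases W (Option.map (flipPt φ).symm o) with _ | r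
    · rfl
    · simp [flipPt_sc]
  · have e : (flipPt φ).symm (0, 1) = (0, 1) := by rw [Equiv.symm_apply_eq, hf]; simp
    rw [Option.map_some, e, h.base, Option.map_some, hf]
    simp
  · have e0 : ((0, 1) : F × F) = flipPt φ (0, 1) := by rw [hf]; simp
    have e1 : ((1, β + 1) : F × F) = flipPt φ (1, β) := by rw [hf]; simp
    have e2 : ((1, β + 1 + 1) : F × F) = flipPt φ (1, β + 1) := by rw [hf]; simp
    have hmp : ∀ p o, Option.map (pm φ.symm (flipPt φ p)) (Option.map (flipPt φ) o) =
        Option.map (flipPt φ) (Option.map (pm φ p) o) := by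
      intro p o
      rcases o with _ | r
      · rfl
      · simp [flipPt_pm]
    rw [e0, e1, e2, hpm, hmm, h.rel, hpm, hmp]

end CfsgLib.CIT.SuzukiRecog
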