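import Cfsg.Agent.Lib.CIT.SuzukiRecog.Check

/-!
# Permutation groups generated by the translations and a solution of the functional equation
-/

set_option autoImplicit false
set_option linter.all false

namespace CfsgLib.CIT.SuzukiRecog

variable {F : Type*} [Field F] [CharP F 2]

/-- The translation by `p`. -/
def pmEquiv (φ : F ≃+* F) (p : F × F) : F × F ≃ F × F where
  toFun := pm φ p
  invFun := pm φ (p.1, p.2 + φ p.1 * p.1)
  left_inv r := by
    have two0 : (2 : F) = 0 := CharTwo.two_eq_zero
    simp only [pm, map_add]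
    ext
    · linear_combination p.1 * two0
    · linear_combination (p.2 + φ p.1 * p.1 + φ p.1 * r.1) * two0
  right_inv r := by
    have two0 : (2 : F) = 0 := CharTwo.two_eq_zero
    simp only [pm, map_add]
    ext
    · linear_combination p.1 * two0
    · linear_combination (p.2 + φ p.1 * p.1 + φ p.1 * r.1) * two0

/-- The translation by `p` on the points. -/
def pmPerm (φ : F ≃+* F) (p : F × F) : Equiv.Perm (Option (F × F)) := Equiv.optionCongr (pmEquiv φ p)

theorem pmPerm_apply (φ : F ≃+* F) (p : F × F) (o : Option (F × F)) : pmPerm φ p o = Option.map (pm φ p) o := by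
  rcases o with _ | r <;> rfl

/-- A faithful representation with image generated by the translations and a solution. -/
structure Frame (G : Type*) [Group G] (φ : F ≃+* F) (β : F) where
  act : G →* Equiv.Perm (Option (F × F))
  inj : Function.Injective act
  w : Equiv.Perm (Option (F × F))
  sol : Sol φ β w
  range_eq : act.range = Subgroup.closure (insert w (Set.range (pmPerm φ)))

variable {φ : F ≃+* F} {β : F}

/-- Two groups with frames for the same parameters are isomorphic. -/
theorem Frame.nonempty_mulEquiv {G G' : Type*} [Group G] [Group G'] (A : Frame G φ β) (B : Frame G' φ β)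
    (hN : Function.Surjective (nrm φ)) (h3 : ∀ v : F, v * v + v + 1 ≠ 0) : Nonempty (G ≃* G') := by
  have hw : A.w = B.w := Equiv.ext (congrFun (A.sol.unique B.sol hN h3))
  have hr : A.act.range = B.act.range := by rw [A.range_eq, B.range_eq, hw]
  exact ⟨((MonoidHom.ofInjective A.inj).trans (MulEquiv.subgroupCongr hr)).trans (MonoidHom.ofInjective B.inj).symm⟩

/-- The frame in the flipped coordinates. -/
theorem Frame.flip {G : Type*} [Group G] (A : Frame G φ β) : Nonempty (Frame G φ.symm (β + 1)) := by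
  set Θ : Option (F × F) ≃ Option (F × F) := Equiv.optionCongr (flipPt φ) with hΘ
  set C : Equiv.Perm (Option (F × F)) ≃* Equiv.Perm (Option (F × F)) := Θ.permCongrHom with hC
  have hCapp : ∀ g o, C g o = Θ (g (Θ.symm o)) := fun g o => rfl
  refine ⟨⟨C.toMonoidHom.comp A.act, C.injective.comp A.inj, C A.w, ?_, ?_⟩⟩
  · convert A.sol.flip using 1
    funext o
    rcases o with _ | r <;> rfl
  · have hset : C.toMonoidHom '' insert A.w (Set.range (pmPerm φ)) =
        insert (C A.w) (Set.range (pmPerm φ.symm)) := by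
      rw [Set.image_insert_eq, ← Set.range_comp]
      congr 1
      have h1 : C.toMonoidHom ∘ pmPerm φ = pmPerm φ.symm ∘ flipPt φ := by
        funext p
        refine Equiv.ext fun o => ?_
        show C (pmPerm φ p) o = pmPerm φ.symm (flipPt φ p) o
        rw [hCapp, pmPerm_apply, pmPerm_apply]
        rcases o with _ | r
        · rfl
        · show some (flipPt φ (pm φ p ((flipPt φ).symm r))) = some (pm φ.symm (flipPt φ p) r)
          rw [flipPt_pm, Equiv.apply_symm_apply]
      rw [h1, Set.range_comp, (flipPt φ).surjective.range_eq, Set.image_univ]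
    rw [MonoidHom.range_comp, A.range_eq, MonoidHom.map_closure, hset]

/-- With `α` in place of `1`, necessarily `α = 1`. -/
theorem alpha_eq_one {φ : F ≃+* F} {α γ : F} (hα : α ≠ 0) {W : Option (F × F) → Option (F × F)}
    (top : W none = some (0, 0)) (invol : ∀ o, W (W o) = o)
    (equiv : ∀ l : F, l ≠ 0 → ∀ o, W (Option.map (sc φ l) o) = Option.map (sc φ l⁻¹) (W o))
    (base : W (some (0, 1)) = some (α, γ))
    (rel : ∀ o, W (Option.map (pm φ (0, 1)) (W o)) =
      Option.map (pm φ (α, γ)) (W (Option.map (pm φ (α, γ + φ α * α)) o))) : α = 1 := by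
  have two0 : (2 : F) = 0 := CharTwo.two_eq_zero
  have hval : W (some (α, γ)) = some (0, 1) := by rw [← base, invol]
  -- the fixed point
  have hfix : W (some (α, γ + φ α * α)) = some (α, γ + φ α * α) := by
    have h0 := rel (some (0, 0))
    rw [show W (some (0, 0)) = none by rw [← top, invol], Option.map_none, top, Option.map_some,
      show pm φ (α, γ + φ α * α) (0, 0) = (α, γ + φ α * α) by simp [pm]] at h0
    rcases e : W (some (α, γ + φ α * α)) with _ | ⟨x, y⟩
    · rw [e] at h0; simp at h0
    · rw [e, Option.map_some, Option.some.injEq] at h0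
      simp only [pm, Prod.mk.injEq] at h0
      obtain ⟨h1, h2⟩ := h0
      have hx : x = α := by linear_combination (-1 : F) * h1 + (-α) * two0
      subst hx
      have hy : y = γ + φ x * x := by linear_combination (-1 : F) * h2 + (-(γ + φ x * x)) * two0
      rw [hy]
  have hN : nrm φ α⁻¹ * nrm φ α = 1 := by rw [← nrm_mul, inv_mul_cancel₀ hα, nrm_one]
  have h1 := rel (some (0, nrm φ α))
  have hinvo : W (some (0, nrm φ α)) = some (sc φ α⁻¹ (α, γ)) := by
    have := equiv α hα (some (0, 1))
    rw [base, Option.map_some, Option.map_some] at this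
    rwa [show sc φ α (0, 1) = (0, nrm φ α) by simp [sc]] at this
  rw [hinvo, Option.map_some, Option.map_some] at h1
  have e1 : pm φ (0, 1) (sc φ α⁻¹ (α, γ)) = sc φ α⁻¹ (α, γ + φ α * α) := by
    have hna : nrm φ α = φ α * α := mul_comm _ _
    simp only [pm, sc, map_zero, Prod.mk.injEq, ← hna]
    exact ⟨by ring, by linear_combination -hN⟩
  have e2 : pm φ (α, γ + φ α * α) (0, nrm φ α) = (α, γ) := by
    simp only [pm, nrm, Prod.mk.injEq]
    exact ⟨by ring, by linear_combination (φ α * α) * two0⟩
  rw [e1, e2, hval] at h1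
  have h2 := equiv α⁻¹ (inv_ne_zero hα) (some (α, γ + φ α * α))
  rw [Option.map_some, inv_inv, hfix, h1, Option.map_some, Option.map_some, Option.some.injEq] at h2
  have h3 := congrArg Prod.fst h2
  simp only [pm, sc, add_zero] at h3
  exact (mul_right_eq_self₀.1 h3.symm).resolve_right hα

/-- Frames normalise to the Tits endomorphism and `β = 0`. -/
theorem Frame.normalise [Finite F] {G : Type*} [Group G] {n i : ℕ} (hn : n = 3 ∨ n = 5)
    (hF : Nat.card F = 2 ^ n) (hi0 : i ≠ 0) (hi : i < n) (hφ : ∀ x, φ x = x ^ 2 ^ i) (A : Frame G φ β) :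
    ∃ ψ : F ≃+* F, (∀ x, ψ x = x ^ 2 ^ ((n + 1) / 2)) ∧ Nonempty (Frame G ψ 0) := by
  haveI := Fintype.ofFinite F
  rcases allowed_small hn hF hi0 hi hφ A.sol with ⟨e, rfl⟩ | ⟨e, rfl⟩
  · refine ⟨φ.symm, fun x => ?_, ?_⟩
    · rw [RingEquiv.symm_apply_eq, hφ, ← pow_mul, ← pow_add, show (n + 1) / 2 + i = n by omega, ← hF,
        Nat.card_eq_fintype_card, FiniteField.pow_card]
    · simpa [add_self'] using A.flip
  · exact ⟨φ, fun x => by rw [hφ, show (n + 1) / 2 = i by omega], ⟨A⟩⟩

/-- Uniqueness over the fields of eight and thirty-two elements. -/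
theorem nonempty_mulEquiv_of_frames [Finite F] {G G' : Type*} [Group G] [Group G'] {n i j : ℕ}
    (hn : n = 3 ∨ n = 5) (hF : Nat.card F = 2 ^ n) (hi0 : i ≠ 0) (hi : i < n) (hj0 : j ≠ 0) (hj : j < n)
    {φ φ' : F ≃+* F} {β β' : F} (hφ : ∀ x, φ x = x ^ 2 ^ i) (hφ' : ∀ x, φ' x = x ^ 2 ^ j)
    (A : Frame G φ β) (B : Frame G' φ' β') : Nonempty (G ≃* G') := by
  obtain ⟨ψ, hψ, ⟨A'⟩⟩ := A.normalise hn hF hi0 hi hφ
  obtain ⟨ψ', hψ', ⟨B'⟩⟩ := B.normalise hn hF hj0 hj hφ'
  obtain rfl : ψ' = ψ := RingEquiv.ext fun x => by rw [hψ, hψ']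
  have he : Exps n := by
    rcases hn with rfl | rfl
    exacts [exps_eight, exps_thirtyTwo]
  exact A'.nonempty_mulEquiv B' (nrm_surjective he hF (i := (n + 1) / 2) (by omega) hψ)
    (no_cube_root he (by omega) hF)

end CfsgLib.CIT.SuzukiRecog
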