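import Cfsg.Agent.Lib.CIT.SuzukiRecog.Theta
import Cfsg.Agent.Lib.CIT.SuzukiRecog.Elim
import Cfsg.Agent.Lib.CIT.SuzukiRecog.Check

/-!
# The parameters over an arbitrary field of `2ⁿ` elements, `n ≥ 7` odd

Counting roots: `β ∈ {0, 1}` and `φ² = (x ↦ x²)` or `φ⁻²` is so.
-/

set_option autoImplicit false
set_option linter.all false

namespace CfsgLib.CIT.SuzukiRecog

open Polynomial

theorem exps_of_odd {n : ℕ} (hn : Odd n) : Exps n := by
  refine ⟨fun i _ => ?_⟩
  by_contra hne
  obtain ⟨p, hp, hdvd⟩ := Nat.exists_prime_and_dvd hne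
  haveI := Fact.mk hp
  have h1 : ((1 + 2 ^ i : ℕ) : ZMod p) = 0 :=
    (ZMod.natCast_eq_zero_iff _ _).2 (hdvd.trans (Nat.gcd_dvd_left _ _))
  have h2 : ((2 ^ n - 1 : ℕ) : ZMod p) = 0 :=
    (ZMod.natCast_eq_zero_iff _ _).2 (hdvd.trans (Nat.gcd_dvd_right _ _))
  rw [Nat.cast_sub Nat.one_le_two_pow] at h2
  push_cast at h1 h2
  have hn1 : (2 : ZMod p) ^ n = 1 := sub_eq_zero.1 h2
  have hi2 : (2 : ZMod p) ^ (2 * i) = 1 := by
    rw [pow_mul', show (2 : ZMod p) ^ i = -1 by linear_combination h1]; ring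
  have h3 : (2 : ZMod p) ^ (2 * i).gcd n = 1 := pow_gcd_eq_one.2 ⟨hi2, hn1⟩
  rw [Nat.Coprime.gcd_mul_left_cancel i (Nat.coprime_two_left.2 hn)] at h3
  obtain ⟨d, hd⟩ := Nat.gcd_dvd_left i n
  have h4 : (2 : ZMod p) ^ i = 1 := by rw [hd, pow_mul, h3, one_pow]
  rw [h4] at h1
  have h5 : (2 : ZMod p) = 0 := by linear_combination h1
  rw [h5, zero_pow (by obtain ⟨k, hk⟩ := hn; omega)] at hn1
  exact zero_ne_one hn1

variable {F : Type*} [Field F] [Fintype F] [CharP F 2] {φ : F ≃+* F} {β : F} {n i : ℕ}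
  {W : Option (F × F) → Option (F × F)}

/-- A polynomial with many roots vanishes. -/
theorem eq_zero_of_roots (P : Polynomial F) (S : Finset F) (hd : P.natDegree + S.card < Fintype.card F)
    (h : ∀ r ∉ S, P.eval r = 0) : P = 0 := by
  classical
  refine eq_zero_of_natDegree_lt_card_of_eval_eq_zero' P (Finset.univ \ S) (fun r hr => h r (by simpa using hr)) ?_
  rw [Finset.card_sdiff, Finset.inter_univ, Finset.card_univ]
  omega

/-- A set closed under sums containing more than half of the field is all of it. -/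
theorem forall_of_half (S : Finset F) (hS : 2 * S.card < Fintype.card F) {f g : F →+ F}
    (h : ∀ r ∉ S, f r = g r) (r : F) : f r = g r := by
  classical
  by_contra hne
  have hsub : ∀ a : F, a ∈ S ∨ r + a ∈ S := fun a => by
    by_contra hno
    push Not at hno
    have h1 := h _ hno.2
    rw [map_add, map_add, h _ hno.1] at h1
    exact hne (add_right_cancel h1)
  have hle : (Finset.univ : Finset F).card ≤ (S ∪ S.image fun a => r + a).card := by
    refine Finset.card_le_card fun a _ => ?_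
    rcases hsub a with ha | ha
    · exact Finset.mem_union_left _ ha
    · exact Finset.mem_union_right _ (Finset.mem_image.2 ⟨r + a, ha, by grind⟩)
  have h2 := (hle.trans (Finset.card_union_le _ _)).trans (Nat.add_le_add_left Finset.card_image_le _)
  rw [Finset.card_univ] at h2
  omega

/-- `x ↦ x^(2^k)` is the identity only for `k = 0` below `n`. -/
theorem eq_zero_of_pow_fixed (hF : Fintype.card F = 2 ^ n) {k : ℕ} (hk : k < n)
    (h : ∀ x : F, x ^ 2 ^ k = x) : k = 0 := by
  classical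
  by_contra hk0
  have h2 : 1 < 2 ^ k := Nat.one_lt_two_pow hk0
  have hd := FiniteField.X_pow_card_sub_X_natDegree_eq F h2
  have h0 := eq_zero_of_roots (X ^ 2 ^ k - X : Polynomial F) ∅
    (by rw [hd, hF, Finset.card_empty, add_zero]; exact Nat.pow_lt_pow_right one_lt_two hk)
    (fun r _ => by simp [h r])
  rw [h0, natDegree_zero] at hd
  omega

/-- The exponent `2^i` with `i ≠ 0` has a small size. -/
theorem size_bound {i n : ℕ} (hn : 7 ≤ n) (hle : 2 * i + 1 ≤ n) : 8 * 2 ^ i + 12 < 2 ^ n := by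
  rcases Nat.lt_or_ge i 3 with h | h
  · have h1 : 2 ^ i ≤ 2 ^ 2 := Nat.pow_le_pow_right two_pos (by omega)
    have h2 : 2 ^ 7 ≤ 2 ^ n := Nat.pow_le_pow_right two_pos hn
    omega
  · have h1 : 2 ^ 3 ≤ 2 ^ i := Nat.pow_le_pow_right two_pos h
    have h2 : 2 ^ (2 * i + 1) ≤ 2 ^ n := Nat.pow_le_pow_right two_pos hle
    rw [pow_succ, two_mul, pow_add] at h2
    generalize 2 ^ i = a at *
    nlinarith

theorem Sol.beta_small (h : Sol φ β W) (hn : 7 ≤ n) (hodd : Odd n) (hF : Fintype.card F = 2 ^ n) (hi0 : i ≠ 0)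
    (hle : 2 * i + 1 ≤ n) (hφ : ∀ x, φ x = x ^ 2 ^ i) : β = 0 ∨ β = 1 := by
  classical
  by_contra hcon
  push Not at hcon
  have hγ : β ^ 2 + β ≠ 0 := by
    intro e
    rcases mul_eq_zero.1 (show β * (β + 1) = 0 by linear_combination e) with e | e
    · exact hcon.1 e
    · exact hcon.2 (CharTwo.add_eq_zero.1 e)
  have he := exps_of_odd hodd
  have hN := nrm_surjective he (Nat.card_eq_fintype_card.trans hF) (show i < n by omega) hφ
  set P : Polynomial F := (X + X ^ 2 ^ i) ^ 2 * zexpr (C β) X (X ^ 2 ^ i) with hP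
  have hroots : ∀ r ∉ ({0, 1} : Finset F), P.eval r = 0 := by
    intro r hr
    simp only [Finset.mem_insert, Finset.mem_singleton, not_or] at hr
    obtain ⟨s, hs⟩ := hN (nrm φ r + 1)
    have hne1 : nrm φ r ≠ 1 := fun e => hr.2 (pow_injective he (Nat.card_eq_fintype_card.trans hF)
      (show i < n by omega) (by simpa only [nrm_eq_pow hφ, one_pow] using e.trans (one_pow (M := F) (1 + 2 ^ i)).symm))
    have hs0 : s ≠ 0 := by
      rintro rfl
      rw [nrm_zero] at hs
      exact hne1 (CharTwo.add_eq_zero.1 hs.symm)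
    have hs1 : s ≠ 1 := by
      rintro rfl
      rw [nrm_one] at hs
      exact nrm_ne_zero φ hr.1 (by linear_combination -hs)
    have hsr : s ≠ r := by
      rintro rfl
      exact one_ne_zero (α := F) (by linear_combination -hs)
    have hst : s * φ s = r * φ r + 1 := hs
    have h1 := zexpr_eq_zero hst (h.star hN hr.1 hr.2 hs0 hs1 hs) (h.star' hN hr.1 hr.2 hs0 hsr hs)
      (mul_ne_zero hr.1 ((map_ne_zero φ).2 hr.1)) hγ
    rw [hφ r] at h1
    simpa [hP, zexpr, eval_add, eval_mul, eval_pow] using h1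
  have hdeg : P.natDegree ≤ 7 * 2 ^ i + 6 := by
    have h2 : 2 ≤ 2 ^ i := Nat.le_self_pow hi0 2
    rw [hP]
    unfold zexpr
    compute_degree
    · omega
  have hP0 : P = 0 := eq_zero_of_roots P {0, 1} (by
    have := size_bound hn hle
    have hc : ({0, 1} : Finset F).card ≤ 2 := Finset.card_le_two
    rw [hF]
    omega) hroots
  -- the lowest coefficient
  obtain ⟨j, hj⟩ : ∃ j, 2 ^ i = j + 2 := ⟨2 ^ i - 2, by have : 2 ≤ 2 ^ i := Nat.le_self_pow hi0 2; omega⟩
  set M : Polynomial F := X ^ j with hM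
  set Q : Polynomial F := (1 + X * M) ^ 2 * ((1 + X + X ^ 2 * M + X ^ 3 * M) *
      (X * M * (1 + X + X ^ 2 * M + X ^ 3 * M) ^ 2 + (1 + X * M) * ((1 + C β) * (X * M * (1 + X)) *
        (1 + X ^ 4 * M) + C β * (1 + X ^ 2 * M) * (1 + X ^ 5 * M ^ 2))) +
    (C β ^ 2 + C β) * (1 + X * M) ^ 2 * (1 + X ^ 3 * M * (X + X ^ 2 * M) + (X ^ 3 * M) ^ 3 +
      (X + X ^ 2 * M) ^ 2 + X ^ 3 * M * (X + X ^ 2 * M) ^ 2)) with hQ
  have hPQ : P = X ^ 4 * Q := by
    rw [hP, hQ, hj, pow_add, ← hM]
    unfold zexpr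
    ring
  rw [hP0] at hPQ
  have hQ0 : Q = 0 := (mul_eq_zero.1 hPQ.symm).resolve_left (pow_ne_zero 4 X_ne_zero)
  have h3 := congrArg (eval 0) hQ0
  rw [hQ] at h3
  simp [eval_add, eval_mul, eval_pow] at h3
  exact hcon.1 (by grind)

theorem Sol.phi_phi (h : Sol φ 0 W) (hn : 7 ≤ n) (hodd : Odd n) (hF : Fintype.card F = 2 ^ n) {k : ℕ}
    (hk : k < n) (hk0 : k ≠ 0) (hφ : ∀ x, φ x = x ^ 2 ^ k) (hi0 : i ≠ 0) (hle : 2 * i + 1 ≤ n)
    (hcase : k = i ∨ k + i = n) (x : F) : φ (φ x) = x ^ 2 := by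
  classical
  have he := exps_of_odd hodd
  have hN := nrm_surjective he (Nat.card_eq_fintype_card.trans hF) hk hφ
  have hpow : k + i = n → ∀ r : F, φ r ^ 2 ^ i = r := fun e r => by
    rw [hφ, ← pow_mul, ← pow_add, e, ← hF, FiniteField.pow_card]
  set σ := 2 ^ i with hσ
  have h2σ : 2 ≤ σ := Nat.le_self_pow hi0 2
  set P₁ : Polynomial F := X ^ σ - X with hP₁
  set P₂ : Polynomial F := X ^ (σ + 2) - C 1 with hP₂
  set P₃ : Polynomial F := X ^ (2 * σ + 1) - C 1 with hP₃
  set S : Finset F := P₁.roots.toFinset ∪ P₂.roots.toFinset ∪ P₃.roots.toFinset ∪ {0, 1} with hS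
  have hScard : S.card ≤ 4 * σ + 5 := by
    have h1 : P₁.roots.toFinset.card ≤ σ := (Multiset.toFinset_card_le _).trans ((card_roots' _).trans
      (le_of_eq (FiniteField.X_pow_card_sub_X_natDegree_eq F (by omega))))
    have h2 : P₂.roots.toFinset.card ≤ σ + 2 := (Multiset.toFinset_card_le _).trans ((card_roots' _).trans
      (le_of_eq natDegree_X_pow_sub_C))
    have h3 : P₃.roots.toFinset.card ≤ 2 * σ + 1 := (Multiset.toFinset_card_le _).trans ((card_roots' _).trans
      (le_of_eq natDegree_X_pow_sub_C))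
    have h4 : ({0, 1} : Finset F).card ≤ 2 := Finset.card_le_two
    have h5 := Finset.card_union_le (P₁.roots.toFinset ∪ P₂.roots.toFinset ∪ P₃.roots.toFinset) ({0, 1} : Finset F)
    have h6 := Finset.card_union_le (P₁.roots.toFinset ∪ P₂.roots.toFinset) P₃.roots.toFinset
    have h7 := Finset.card_union_le P₁.roots.toFinset P₂.roots.toFinset
    rw [hS]
    omega
  have hgood : ∀ r ∉ S, φ (φ r) = r ^ 2 := by
    intro r hr
    simp only [hS, Finset.mem_union, Finset.mem_insert, Finset.mem_singleton, Multiset.mem_toFinset, not_or] at hr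
    obtain ⟨⟨⟨hr1, hr2⟩, hr3⟩, hr0, hrone⟩ := hr
    have hne₁ : P₁ ≠ 0 := fun e => by
      have := FiniteField.X_pow_card_sub_X_natDegree_eq F (p := σ) (by omega)
      rw [← hP₁, e, natDegree_zero] at this; omega
    have hne₂ : P₂ ≠ 0 := X_pow_sub_C_ne_zero (by omega) _
    have hne₃ : P₃ ≠ 0 := X_pow_sub_C_ne_zero (by omega) _
    rw [mem_roots hne₁] at hr1
    rw [mem_roots hne₂] at hr2
    rw [mem_roots hne₃] at hr3
    simp only [hP₁, IsRoot, eval_sub, eval_pow, eval_X, sub_eq_zero] at hr1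
    simp only [hP₂, IsRoot, eval_sub, eval_pow, eval_X, eval_C, sub_eq_zero] at hr2
    simp only [hP₃, IsRoot, eval_sub, eval_pow, eval_X, eval_C, sub_eq_zero] at hr3
    have hu : r + φ r ≠ 0 := fun e => by
      have e' : φ r = r := (CharTwo.add_eq_zero.1 e).symm
      rcases hcase with rfl | hc
      · exact hr1 (by rw [hσ, ← hφ, e'])
      · exact hr1 (by have := hpow hc r; rwa [e'] at this)
    have ha : 1 + r * φ r * r ≠ 0 := fun e => by
      have e' : r * φ r * r = 1 := (CharTwo.add_eq_zero.1 e).symm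
      rcases hcase with rfl | hc
      · exact hr2 (by rw [hφ, ← hσ] at e'; rw [pow_add]; linear_combination e')
      · exact hr3 (by
          have h1 := congrArg (fun y => y ^ σ) e'
          simp only [mul_pow, one_pow, hpow hc r] at h1
          rw [← h1]; ring)
    have hR : φ r ≠ 0 := (map_ne_zero φ).2 hr0
    have hne1 : nrm φ r ≠ 1 := fun e => hrone (pow_injective he (Nat.card_eq_fintype_card.trans hF)
      hk (by simpa only [nrm_eq_pow hφ, one_pow] using e.trans (one_pow (M := F) (1 + 2 ^ k)).symm))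
    obtain ⟨s, hs⟩ := hN (nrm φ r + 1)
    have hs0 : s ≠ 0 := by
      rintro rfl
      rw [nrm_zero] at hs
      exact hne1 (CharTwo.add_eq_zero.1 hs.symm)
    have hs1 : s ≠ 1 := by
      rintro rfl
      rw [nrm_one] at hs
      exact nrm_ne_zero φ hr0 (by linear_combination -hs)
    have hsr : s ≠ r := by
      rintro rfl
      exact one_ne_zero (α := F) (by linear_combination -hs)
    have h1r : 1 + r ≠ 0 := fun e => hrone (CharTwo.add_eq_zero.1 e).symm
    have h1R : 1 + φ r ≠ 0 := by rw [← map_one φ, ← map_add]; exact (map_ne_zero φ).2 h1r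
    have hst : s * φ s = r * φ r + 1 := hs
    have h1 := value_of_zero hst (by rw [h.star hN hr0 hrone hs0 hs1 hs]; ring)
      (by rw [h.star' hN hr0 hrone hs0 hsr hs]; ring) hu hR h1r ha
    have h2 := congrArg φ h1
    simp only [map_mul, map_add, map_one] at h2
    generalize φ (φ r) = R' at h2
    generalize φ r = R at h1 h2 hst hR h1R
    generalize φ s = t at h2 hst
    have h3 : (R' - r ^ 2) * (R * (1 + R)) = 0 := by
      linear_combination (norm := grind) (t * (1 + R * R')) * h1 + (1 + r * R * r) * h2 +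
        ((1 + r * R) * (1 + R * R')) * hst
    exact sub_eq_zero.1 ((mul_eq_zero.1 h3).resolve_right (mul_ne_zero hR h1R))
  refine forall_of_half (f := (φ.toRingHom.comp φ.toRingHom).toAddMonoidHom) (g := (frobenius F 2).toAddMonoidHom) S
    ?_ (fun r hr => hgood r hr) x
  have := size_bound hn hle
  rw [hF]
  omega

/-- Below the middle: `2 i + 1 = n` and `β = 1`. -/
theorem Sol.params_small (h : Sol φ β W) (hn : 7 ≤ n) (hodd : Odd n) (hF : Fintype.card F = 2 ^ n) (hi0 : i ≠ 0)
    (hle : 2 * i + 1 ≤ n) (hφ : ∀ x, φ x = x ^ 2 ^ i) : 2 * i + 1 = n ∧ β = 1 := by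
  rcases h.beta_small hn hodd hF hi0 hle hφ with rfl | rfl
  · exfalso
    have h1 := h.phi_phi hn hodd hF (show i < n by omega) hi0 hφ hi0 hle (Or.inl rfl)
    have h2 : ∀ y : F, y ^ 2 ^ (2 * i - 1) = y := fun y => by
      refine frobenius_inj F 2 ?_
      simp only [frobenius_def]
      rw [← h1 y, hφ, hφ, ← pow_mul, ← pow_mul]
      congr 1
      rw [← pow_add, ← pow_succ]
      congr 1
      omega
    have := eq_zero_of_pow_fixed hF (show 2 * i - 1 < n by omega) h2
    omega
  · refine ⟨?_, rfl⟩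
    have hfl := h.flip
    rw [add_self'] at hfl
    have hsymm : ∀ x, φ.symm x = x ^ 2 ^ (n - i) := fun x => by
      rw [RingEquiv.symm_apply_eq, hφ, ← pow_mul, ← pow_add, show n - i + i = n by omega, ← hF,
        FiniteField.pow_card]
    have h1 := hfl.phi_phi hn hodd hF (show n - i < n by omega) (by omega) hsymm hi0 hle (Or.inr (by omega))
    rcases eq_or_lt_of_le hle with e | e
    · exact e
    exfalso
    have h2 : ∀ x : F, x ^ 2 ^ (2 * i + 1) = x := fun x => by
      have h3 := congrArg φ (congrArg φ (h1 x))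
      rw [RingEquiv.apply_symm_apply, RingEquiv.apply_symm_apply, hφ, hφ, ← pow_mul, ← pow_mul] at h3
      nth_rw 2 [h3]
      congr 1
      rw [pow_succ, two_mul, pow_add]
      ring
    have := eq_zero_of_pow_fixed hF e h2
    omega

/-- The possible parameters. -/
theorem allowed_large (hn : 7 ≤ n) (hodd : Odd n) (hF : Nat.card F = 2 ^ n) (hi0 : i ≠ 0) (hi : i < n)
    (hφ : ∀ x, φ x = x ^ 2 ^ i) (h : Sol φ β W) : (2 * i + 1 = n ∧ β = 1) ∨ (2 * i = n + 1 ∧ β = 0) := by
  rw [Nat.card_eq_fintype_card] at hF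
  obtain ⟨d, hd⟩ := hodd
  by_cases hc : 2 * i + 1 ≤ n
  · exact Or.inl (h.params_small hn ⟨d, hd⟩ hF hi0 hc hφ)
  · have hsymm : ∀ x, φ.symm x = x ^ 2 ^ (n - i) := fun x => by
      rw [RingEquiv.symm_apply_eq, hφ, ← pow_mul, ← pow_add, show n - i + i = n by omega, ← hF,
        FiniteField.pow_card]
    obtain ⟨e1, e2⟩ := h.flip.params_small hn ⟨d, hd⟩ hF (i := n - i) (by omega) (by omega) hsymm
    exact Or.inr ⟨by omega, by linear_combination e2⟩

end CfsgLib.CIT.SuzukiRecog
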