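import Cfsg.Agent.Lib.CIT.SuzukiRecog.Iso
import Cfsg.Agent.Lib.CIT.EPPO

/-!
# Suzuki groups all of whose elements have prime power order
-/

set_option autoImplicit false
set_option linter.all false

namespace CfsgLib.CIT.SuzukiRecog

open CfsgLib.PGroups.SuzukiZass (Kern IsTorus descent)

/-- The orders of the two tori. -/
theorem pair_values {a₁ a₂ j l : ℕ} (h1 : 1 ≤ a₁) (h2 : 1 ≤ a₂) (hsum : a₁ + a₂ = 2 * 2 ^ (2 * l + 1) + 2)
    (hprod : a₁ * a₂ * j = (2 ^ (2 * l + 1)) ^ 2 + 1) :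
    (a₁ = 2 ^ (2 * l + 1) + 1 + 2 ^ (l + 1) ∨ a₁ + 2 ^ (l + 1) = 2 ^ (2 * l + 1) + 1) ∧
      a₁ * a₂ = (2 ^ (2 * l + 1)) ^ 2 + 1 := by
  set q := 2 ^ (2 * l + 1) with hq
  have hj : j = 1 := by
    rcases j with _ | _ | j
    · simp at hprod
    · rfl
    exfalso
    have hs : (a₁ : ℤ) + a₂ = 2 * q + 2 := by exact_mod_cast hsum
    have hp : (a₁ : ℤ) * a₂ * ((j + 1 + 1 : ℕ) : ℤ) = (q : ℤ) ^ 2 + 1 := by exact_mod_cast hprod
    obtain ⟨N, hN⟩ := Int.eq_ofNat_of_zero_le (show (0 : ℤ) ≤ q + 1 + a₁ by positivity)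
    refine descent ((j + 1 + 1 : ℕ) : ℤ) (by push_cast; omega) N (q + 1) a₁ (by positivity) (by omega) hN ?_
    rw [show (2 : ℤ) * (q + 1) - a₁ = a₂ by linarith]
    linear_combination -hp
  subst hj
  rw [mul_one] at hprod
  refine ⟨?_, hprod⟩
  have hs : (a₁ : ℤ) + a₂ = 2 * q + 2 := by exact_mod_cast hsum
  have hp : (a₁ : ℤ) * a₂ = (q : ℤ) ^ 2 + 1 := by exact_mod_cast hprod
  have hr : (2 : ℤ) * q = ((2 ^ (l + 1) : ℕ) : ℤ) ^ 2 := by
    rw [hq]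
    push_cast
    ring
  have he : ((a₁ : ℤ) - (q + 1)) ^ 2 = ((2 ^ (l + 1) : ℕ) : ℤ) ^ 2 := by
    linear_combination hr + (a₁ : ℤ) * hs - hp
  rcases sq_eq_sq_iff_eq_or_eq_neg.1 he with e | e
  · left; omega
  · right; omega

/-- If `q + 1 ± r` is a power of five then `q ∈ {8, 32}`. -/
theorem log_small {l e a : ℕ} (hl : 1 ≤ l) (ha : a = 5 ^ e)
    (h : a = 2 ^ (2 * l + 1) + 1 + 2 ^ (l + 1) ∨ a + 2 ^ (l + 1) = 2 ^ (2 * l + 1) + 1) : l = 1 ∨ l = 2 := by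
  by_contra hcon
  obtain ⟨i, rfl⟩ : ∃ i, l = i + 3 := ⟨l - 3, by omega⟩
  have hr : 2 ^ (2 * (i + 3) + 1) = 2 ^ (i + 3 + 1) * 2 ^ (i + 3) := by rw [← pow_add]; congr 1; omega
  have hz : ((5 : ZMod (2 ^ (i + 2 + 2))) ^ e) = 1 := by
    have hN : 2 ^ (i + 3 + 1) = 2 ^ (i + 2 + 2) := by congr 1
    rw [hr, hN, ha] at h
    generalize hn : 2 ^ (i + 2 + 2) = N at h ⊢
    generalize 2 ^ (i + 3) = M at h
    rcases h with h | h <;>
    · have h' := congrArg (Nat.cast : ℕ → ZMod N) h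
      simpa using h'
  have hdvd : 2 ^ (i + 2) ∣ e := by
    rw [← ZMod.orderOf_five (i + 2)]
    exact orderOf_dvd_of_pow_eq_one hz
  have he0 : e ≠ 0 := by
    rintro rfl
    have := Nat.one_le_two_pow (n := 2 * (i + 3) + 1)
    have h1 : 2 ^ (i + 3 + 1) < 2 ^ (2 * (i + 3) + 1) := Nat.pow_lt_pow_right one_lt_two (by omega)
    rw [pow_zero] at ha
    generalize 2 ^ (i + 3 + 1) = R at *
    generalize 2 ^ (2 * (i + 3) + 1) = Q at *
    omega
  have h2 : 2 ^ (i + 2) ≤ e := Nat.le_of_dvd (by omega) hdvd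
  have h3 : i + 4 ≤ 2 ^ (i + 2) := by
    have := Nat.lt_two_pow_self (n := i)
    have h22 : 2 ^ (i + 2) = 4 * 2 ^ i := by rw [pow_add]; ring
    omega
  have h4 : 4 ^ (i + 4) < 5 ^ e := lt_of_lt_of_le (Nat.pow_lt_pow_left (by norm_num) (by omega))
    (Nat.pow_le_pow_right (by norm_num) (h3.trans h2))
  have h5 : 4 ^ (i + 4) = 2 * 2 ^ (2 * (i + 3) + 1) := by
    rw [show (4 : ℕ) = 2 ^ 2 by norm_num, ← pow_mul, ← pow_succ']
    congr 1
  have h6 : 2 ^ (i + 3 + 1) + 1 < 2 ^ (2 * (i + 3) + 1) := by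
    have h7 : 2 * 2 ^ (i + 3 + 1) ≤ 2 ^ (2 * (i + 3) + 1) := by
      rw [← pow_succ']
      exact Nat.pow_le_pow_right two_pos (by omega)
    have := Nat.one_lt_two_pow (n := i + 3 + 1) (by omega)
    omega
  rw [h5, ← ha] at h4
  generalize 2 ^ (i + 3 + 1) = R at *
  generalize 2 ^ (2 * (i + 3) + 1) = Q at *
  omega

/-- A group of Suzuki order all of whose elements have prime power order is `Sz(8)` or `Sz(32)`. -/
theorem eppo_suzuki {G : Type*} [Group G] [Finite G] [IsSimpleGroup G] (hna : ¬ IsMulCommutative G)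
    (h : ∀ g : G, g ≠ 1 → IsPrimePow (orderOf g)) (hS : Cfsg.IsSuzuki G) :
    ∃ (F : Type) (_ : Field F) (_ : Fintype F),
      (Fintype.card F = 8 ∧ Nonempty (G ≃* ↥(Cfsg.Lie.Sz F 4))) ∨
      (Fintype.card F = 32 ∧ Nonempty (G ≃* ↥(Cfsg.Lie.Sz F 8))) := by
  obtain ⟨-, l, hl, hG⟩ := hS
  haveI : Fact (Nat.Prime 5) := ⟨by norm_num⟩
  have hC := eppo_cit h
  set q := 2 ^ (2 * l + 1) with hq
  have hq8 : 8 ≤ q := le_trans (by norm_num) (Nat.pow_le_pow_right two_pos (show 3 ≤ 2 * l + 1 by omega))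
  have hq3 : q % 3 = 2 := by rw [hq, pow_succ, pow_mul, Nat.mul_mod, Nat.pow_mod]; norm_num
  have hG2 : 2 ∣ Nat.card G := by
    rw [hG]
    exact Dvd.dvd.mul_right (Dvd.dvd.mul_right (dvd_pow (dvd_pow_self 2 (by omega)) two_ne_zero) _) _
  have hG3 : ¬ 3 ∣ Nat.card G := by
    intro h3
    rw [hG] at h3
    have h1 : (q ^ 2 + 1) % 3 = 2 := by rw [Nat.add_mod, Nat.pow_mod, hq3]
    have h2 : q ^ 2 % 3 = 1 := by rw [Nat.pow_mod, hq3]
    have h4 : (q - 1) % 3 = 1 := by omega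
    have : q ^ 2 * (q ^ 2 + 1) * (q - 1) % 3 = 2 := by
      rw [Nat.mul_mod, Nat.mul_mod (q ^ 2), h1, h2, h4]
    omega
  obtain ⟨T, H, a, b, m, K⟩ := exists_kern_cit hna hC hG2 hG3
  letI := Fintype.ofFinite (G ⧸ Subgroup.normalizer (T : Set G))
  have hm : m = 2 * l + 1 := by
    refine log_eq (q := 2 ^ m) rfl (by omega) (le_trans one_le_two K.two_le) ?_
    rw [← hq, ← hG, K.card_eq, K.card_sq]
    congr 2
    have := K.card_two_stab
    omega
  subst hm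
  obtain ⟨A₁, A₂, hA₁, hA₂, h1, h2, hsum, j, hj⟩ := K.exists_torus_pair K.card_sq
  rw [← hq] at hsum hj
  obtain ⟨hv₁, hprod⟩ := pair_values h1 h2 hsum hj
  obtain ⟨hv₂, -⟩ := pair_values h2 h1 (by rw [add_comm]; exact hsum) (by rw [mul_comm (Nat.card A₂)]; exact hj)
  have h5 : 5 ∣ Nat.card A₁ * Nat.card A₂ := by
    rw [hprod]
    refine Nat.dvd_of_mod_eq_zero ?_
    have h16 : 16 ^ l % 5 = 1 := by rw [Nat.pow_mod]; norm_num
    rw [← pow_mul, show (2 * l + 1) * 2 = 2 + 4 * l by ring, pow_add, pow_mul,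
      show (2 : ℕ) ^ 4 = 16 by norm_num, show (2 : ℕ) ^ 2 = 4 by norm_num, Nat.add_mod, Nat.mul_mod, h16]
  have key : ∀ A : Subgroup G, IsTorus (G ⧸ Subgroup.normalizer (T : Set G)) A → 5 ∣ Nat.card A →
      ∃ e, Nat.card A = 5 ^ e := by
    intro A hA h5A
    obtain ⟨y, hy⟩ := exists_prime_orderOf_dvd_card' 5 h5A
    have hy' : orderOf (y : G) = 5 ^ 1 := by rw [Subgroup.orderOf_coe, hy, pow_one]
    have hy1 : (y : G) ≠ 1 := fun e => by rw [e, orderOf_one] at hy'; norm_num at hy'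
    have hP := eppo_centralizer h hy1 (p := 5) (k := 1) (by norm_num) hy'
    rw [(K.torus_elt hA y.2 hy1).2] at hP
    exact hP.exists_card_eq
  have hl12 : l = 1 ∨ l = 2 := by
    rcases (Nat.Prime.dvd_mul (by norm_num)).1 h5 with h5' | h5'
    · obtain ⟨e, he⟩ := key A₁ hA₁ h5'
      exact log_small hl he hv₁
    · obtain ⟨e, he⟩ := key A₂ hA₂ h5'
      exact log_small hl he hv₂
  haveI : Fact (Nat.Prime 2) := ⟨Nat.prime_two⟩
  letI : Fintype (GaloisField 2 (2 * l + 1)) := Fintype.ofFinite _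
  have hF : Fintype.card (GaloisField 2 (2 * l + 1)) = 2 ^ (2 * l + 1) := by
    rw [← Nat.card_eq_fintype_card, GaloisField.card 2 _ (by omega)]
  have hiso := nonempty_mulEquiv_sz hna hC hl12 hF hG
  refine ⟨GaloisField 2 (2 * l + 1), inferInstance, inferInstance, ?_⟩
  rcases hl12 with rfl | rfl
  · exact Or.inl ⟨by rw [hF]; norm_num, by simpa using hiso⟩
  · exact Or.inr ⟨by rw [hF]; norm_num, by simpa using hiso⟩

/-- Simple groups all of whose elements have prime power order. -/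
theorem eppo_simple_list {G : Type*} [Group G] [Finite G] [IsSimpleGroup G] (hna : ¬ IsMulCommutative G)
    (h : ∀ g : G, g ≠ 1 → IsPrimePow (orderOf g)) :
    Nonempty (G ≃* alternatingGroup (Fin 6)) ∨
    (∃ (F : Type) (_ : Field F) (_ : Fintype F), Fintype.card F ∈ ({4, 7, 8, 17} : Finset ℕ) ∧
      Nonempty (G ≃* Matrix.ProjectiveSpecialLinearGroup (Fin 2) F)) ∨
    (∃ (F : Type) (_ : Field F) (_ : Fintype F), Fintype.card F = 4 ∧
      Nonempty (G ≃* Matrix.ProjectiveSpecialLinearGroup (Fin 3) F)) ∨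
    (∃ (F : Type) (_ : Field F) (_ : Fintype F),
      (Fintype.card F = 8 ∧ Nonempty (G ≃* ↥(Cfsg.Lie.Sz F 4))) ∨
      (Fintype.card F = 32 ∧ Nonempty (G ≃* ↥(Cfsg.Lie.Sz F 8)))) :=
  (eppo_simple hna h).imp_right fun h1 => h1.imp_right fun h2 => h2.imp_right fun hS => eppo_suzuki hna h hS

end CfsgLib.CIT.SuzukiRecog
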