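import Cfsg.Agent.Lib.CIT.SuzukiRecog.Equation

/-!
# The parameters of a solution of the functional equation

For `r ∉ {0, 1}` let `N s = N r + 1`.  The points `c⁻¹ (c scaled by r⁻¹)` and `c⁻¹ (c scaled by s⁻¹)` are exchanged.
After normalising the first coordinate this gives a relation between `r`, `s`, `φ r`, `φ s`, and with its transform
under `(r, s) ↦ (r⁻¹, s / r)` it determines `s` and `φ s` rationally.  As `s φ(s) = N r + 1`, this leaves
`β ∈ {0, 1}`; for `β = 0` it gives `s = (1 + r² φ r) / (1 + N r)`, whence `φ (φ r) = r²`.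
-/

set_option autoImplicit false
set_option linter.all false

namespace CfsgLib.CIT.SuzukiRecog

variable {F : Type*} [Field F] [CharP F 2] {φ : F ≃+* F} {β : F} {W : Option (F × F) → Option (F × F)}

/-- The two points exchanged. -/
theorem Sol.family (h : Sol φ β W) {r s : F} (hr : r ≠ 0) (hs0 : s ≠ 0) (hs : nrm φ s = nrm φ r + 1) :
    W (some (pm φ (1, β + 1) (sc φ r⁻¹ (1, β)))) = some (pm φ (1, β + 1) (sc φ s⁻¹ (1, β))) := by
  have h1 := h.rel (some (sc φ r⁻¹ (1, β)))
  have hW : W (some (sc φ r⁻¹ (1, β))) = some (0, nrm φ r) := by rw [← h.invo hr, h.invol]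
  rw [hW, Option.map_some, show pm φ (0, 1) (0, nrm φ r) = (0, nrm φ s) by
      simp only [pm, map_zero, hs, Prod.mk.injEq]; exact ⟨by ring, by ring⟩, h.invo hs0, Option.map_some] at h1
  have h2 := congrArg (Option.map (pm φ (1, β + 1))) h1
  rw [Option.map_some, Option.map_map] at h2
  rw [h2]
  rcases W (some (pm φ (1, β + 1) (sc φ r⁻¹ (1, β)))) with _ | q
  · rfl
  · simp only [Option.map_some, Function.comp_apply, Option.some.injEq, pm, map_one, one_mul]
    ext <;> grind

/-- The normalised first coordinate of the image. -/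
theorem Sol.family_norm (h : Sol φ β W) {r s : F} (hr : r ≠ 0) (hr1 : r ≠ 1) (hs0 : s ≠ 0)
    (hs : nrm φ s = nrm φ r + 1) :
    ∃ y, W (some (1, ((β + 1) * (r * φ r) + β + φ r) / ((1 + r) * (1 + φ r)))) =
      some ((1 + r) / r * (1 + s⁻¹), y) := by
  have hR : φ r ≠ 0 := (map_ne_zero φ).2 hr
  have h1r : 1 + r ≠ 0 := fun e => hr1 (CharTwo.add_eq_zero.1 e).symm
  have h1R : 1 + φ r ≠ 0 := by rw [← map_one φ, ← map_add]; exact (map_ne_zero φ).2 h1r
  set m := (1 + r) / r with hm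
  have hm0 : m ≠ 0 := div_ne_zero h1r hr
  set k := ((β + 1) * (r * φ r) + β + φ r) / ((1 + r) * (1 + φ r)) with hk
  have e : pm φ (1, β + 1) (sc φ r⁻¹ (1, β)) = sc φ m (1, k) := by
    simp only [pm, sc, nrm, hk, hm, map_inv₀, map_div₀, map_add, map_one, Prod.mk.injEq]
    refine ⟨?_, ?_⟩
    · field_simp
      ring
    · field_simp
  have h1 := h.family hr hs0 hs
  have h2 := h.equiv m hm0 (some (1, k))
  rw [Option.map_some, ← e, h1] at h2
  have h3 := congrArg (Option.map (sc φ m)) h2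
  rw [Option.map_map, Option.map_some] at h3
  rcases hw : W (some (1, k)) with _ | ⟨x, y⟩
  · rw [hw] at h3; simp at h3
  · rw [hw, Option.map_some, Function.comp_apply, sc_sc, mul_inv_cancel₀ hm0, sc_one, Option.some.injEq] at h3
    refine ⟨y, ?_⟩
    rw [Option.some.injEq, Prod.mk.injEq]
    refine ⟨?_, rfl⟩
    have h4 := congrArg Prod.fst h3
    simp only [sc, pm, mul_one] at h4
    exact h4.symm

/-- The relation between `r` and `s`. -/
theorem Sol.star (h : Sol φ β W) (hN : Function.Surjective (nrm φ)) {r s : F} (hr : r ≠ 0) (hr1 : r ≠ 1)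
    (hs0 : s ≠ 0) (hs1 : s ≠ 1) (hs : nrm φ s = nrm φ r + 1) :
    (r * φ r) ^ 2 * ((1 + r + s) * (1 + φ r + φ s)) =
      (1 + s) * (1 + φ s) * (φ r * (1 + r) + β * (r + φ r)) := by
  have hR : φ r ≠ 0 := (map_ne_zero φ).2 hr
  have hS : φ s ≠ 0 := (map_ne_zero φ).2 hs0
  have h1r : 1 + r ≠ 0 := fun e => hr1 (CharTwo.add_eq_zero.1 e).symm
  have h1R : 1 + φ r ≠ 0 := by rw [← map_one φ, ← map_add]; exact (map_ne_zero φ).2 h1r
  have h1s : 1 + s⁻¹ ≠ 0 := fun e => hs1 (inv_eq_one.1 (CharTwo.add_eq_zero.1 e).symm)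
  set k := ((β + 1) * (r * φ r) + β + φ r) / ((1 + r) * (1 + φ r)) with hk
  obtain ⟨y, hy⟩ := h.family_norm hr hr1 hs0 hs
  have hr' : r⁻¹ ≠ 1 := fun e => hr1 (inv_eq_one.1 e)
  have hs' : nrm φ (s / r) = nrm φ r⁻¹ + 1 := by
    simp only [nrm] at hs
    simp only [nrm, map_div₀, map_inv₀]
    field_simp
    linear_combination (norm := grind) hs
  obtain ⟨y', hy'⟩ := h.family_norm (inv_ne_zero hr) hr' (div_ne_zero hs0 hr) hs'
  rw [show ((β + 1) * (r⁻¹ * φ r⁻¹) + β + φ r⁻¹) / ((1 + r⁻¹) * (1 + φ r⁻¹)) = k + 1 by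
    rw [hk, map_inv₀]
    have h1 : r + 1 ≠ 0 := by rwa [add_comm]
    have h2 : φ r + 1 ≠ 0 := by rwa [add_comm]
    field_simp
    grind] at hy'
  -- a step from `k` to `k + 1`
  obtain ⟨l, hl⟩ := hN (k + β)
  have hl0 : l ≠ 0 := by
    rintro rfl
    rw [nrm_zero] at hl
    have hkb : k = β + 0 := by rw [add_zero]; exact CharTwo.add_eq_zero.1 hl.symm
    rw [← hk, hkb, h.value_zero, Option.some.injEq, Prod.mk.injEq] at hy
    exact mul_ne_zero (div_ne_zero h1r hr) h1s hy.1.symm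
  have h3 := h.step hl0
  rw [hl, show β + (k + β) = k by grind, show β + (k + β + 1) = k + 1 by grind, hy, hy', Option.map_some,
    Option.map_some, Option.some.injEq] at h3
  have h4 := congrArg Prod.fst h3
  simp only [sc, pm] at h4
  have h5 := congrArg (nrm φ) h4
  rw [nrm_mul, hl] at h5
  simp only [nrm, hk, map_add, map_mul, map_div₀, map_inv₀, map_one] at h5
  field_simp at h5
  linear_combination (norm := grind) h5

/-- The transformed relation. -/
theorem Sol.star' (h : Sol φ β W) (hN : Function.Surjective (nrm φ)) {r s : F} (hr : r ≠ 0) (hr1 : r ≠ 1)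
    (hs0 : s ≠ 0) (hsr : s ≠ r) (hs : nrm φ s = nrm φ r + 1) :
    (1 + r + s) * (1 + φ r + φ s) =
      r * φ r * ((r + s) * (φ r + φ s)) * (1 + r + β * (r + φ r)) := by
  have hR : φ r ≠ 0 := (map_ne_zero φ).2 hr
  have hs' : nrm φ (s / r) = nrm φ r⁻¹ + 1 := by
    simp only [nrm] at hs
    simp only [nrm, map_div₀, map_inv₀]
    field_simp
    linear_combination (norm := grind) hs
  have h1 := h.star hN (inv_ne_zero hr) (fun e => hr1 (inv_eq_one.1 e)) (div_ne_zero hs0 hr)
    (fun e => hsr ((div_eq_one_iff_eq hr).1 e)) hs'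
  simp only [map_inv₀, map_div₀] at h1
  field_simp at h1
  linear_combination (norm := grind) h1

end CfsgLib.CIT.SuzukiRecog
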